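import Cfsg.Agent.H499.FC.EichC1
import Cfsg.Agent.H412.FC.BBridge
import Cfsg.Agent.H786.FC.Parts

/-!
# S5764, task 5382: `StmtBC1` for unitary forms (helper499)
-/

set_option autoImplicit false

namespace Cfsg.Agent.H499.FC

open Subgroup Cfsg Cfsg.Agent.H198.FC Cfsg.Agent.H412.FC
open Cfsg.Agent.H786.FC (StmtBC1K)
open Cfsg.Agent.H200.FC (up up_solv)

universe u v

/-- **`StmtBC1` for unitary forms** -/
theorem stmtBC1U : StmtBC1K.{u, v} true := by
  intro K _ _ V _ _ _ b hk hbig S hS hsol hTI ⟨W, hW0, hW1, hND, hWS⟩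
  have hb : b.IsU := hk.1 rfl
  have hn : 3 ≤ Module.finrank K V := by
    rcases hbig with h | h
    · exact h.2.1
    · exact absurd h.1 (H786.FC.not_isSp_of_isU hb)
  have : Finite V := Module.finite_of_finite K
  have : Nontrivial V := Module.nontrivial_of_finrank_pos (by omega : 0 < Module.finrank K V)
  refine fiveB_of_up hS (fiveBV_C1U hb hn (up_le_Sim hS) (up_solv S hsol) (hm_mem_up S) ?_ hW0 hW1 hND
    (up_le_StabS hWS))
  intro U hU hUS
  exact hTI U hU (stb_of_up hS hUS)

end Cfsg.Agent.H499.FC
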