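import Cfsg.Agent.H499.FC.EichC2
import Cfsg.Agent.H499.FC.BC1U

/-!
# S5764, task 5385: `StmtBC2` for unitary forms, blocks of dimension `≥ 2` (helper499)
-/

set_option autoImplicit false

namespace Cfsg.Agent.H499.FC

open Subgroup Cfsg Cfsg.Agent.H198.FC Cfsg.Agent.H412.FC
open Cfsg.Agent.H57.FC (Blk Pm Sys exists_col)
open Cfsg.Agent.H786.FC (StmtBC1K StmtBC2On)
open Cfsg.Agent.H200.FC (Ph Ph_apply' up mem_up up_le up_solv)

universe u v w

section

variable {K : Type u} [Field K] {V : Type v} [AddCommGroup V] [Module K V]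

/-- **C2 in the semilinear language, blocks of dimension `≥ 2`** -/
theorem c2V_two [Finite K] [Module.Finite K V] {b : Cl K V} (hb : b.IsU) {G : Subgroup (Equiv.Perm V)}
    (hG : G ≤ Sim b) (hsol : Group.IsSolvable G) (hhm : ∀ a : Kˣ, hm K V a ∈ G)
    (hTI : ∀ U : Submodule K V, b.TI U → G ≤ StabS U → U = ⊥) {κ : Type} [Fintype κ] (hκ : 2 ≤ Fintype.card κ)
    {W : κ → Submodule K V} (hS : Sys b G W) (h2 : ∀ i, 2 ≤ Module.finrank K (W i)) : FiveBV b G := by
  have hfin : Finite V := Module.finite_of_finite K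
  obtain ⟨ι, _, _, U, col, hU, hWU, hcol⟩ := exists_col hG inferInstance hsol hκ hS
  refine core2U hb hG hsol hhm hTI hU (fun i => ?_) col hcol
  obtain ⟨j, hj⟩ := hWU i
  exact (h2 j).trans (Submodule.finrank_mono hj)

/-- a system of `S` gives a system of `up S` -/
theorem sys_of [Nontrivial V] {b : Cl K V} {S : Subgroup (Equiv.Perm (R K V))} {k : ℕ} {e : Fin k → R K V}
    (he : CompleteOrthogonalIdempotents e) (hadj : ∀ i, b.Adj (e i) (e i)) (hne : ∀ i, LinearMap.range (e i) ≠ ⊥)
    (hp : ∀ f ∈ S, ∃ π : Equiv.Perm (Fin k), ∀ i, f (e i) = e (π i)) :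
    Sys b (up S) (fun i => LinearMap.range (e i)) := by
  have hmem : ∀ i v, v ∈ LinearMap.range (e i) ↔ e i v = v := by
    intro i v
    constructor
    · rintro ⟨w, rfl⟩
      rw [← Module.End.mul_apply, (he.idem i).eq]
    · intro h
      exact ⟨v, h⟩
  refine ⟨⟨fun i j hij v hv w hw => ?_, ?_⟩, hne, fun g hg => ?_⟩
  · obtain ⟨v', rfl⟩ := hv
    obtain ⟨w', rfl⟩ := hw
    rw [hadj i, ← Module.End.mul_apply, he.ortho hij, LinearMap.zero_apply]
    exact zero_right b v'
  · rw [eq_top_iff]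
    intro v _
    have h1 : v = ∑ i, e i v := by
      have := LinearMap.congr_fun he.complete v
      rw [LinearMap.sum_apply] at this
      exact this.symm
    rw [h1]
    exact Submodule.sum_mem _ fun i _ => Submodule.mem_iSup_of_mem i ⟨v, rfl⟩
  · have hg' := up_le S hg
    rw [mem_up hg'] at hg
    obtain ⟨π, hπ⟩ := hp _ hg
    refine ⟨π, fun i v => ?_⟩
    rw [hmem, hmem, ← hπ i]
    have h1 := Ph_apply' ⟨g, hg'⟩ (e i) v
    change Ph K V ⟨g, hg'⟩ (e i) (g v) = g (e i v) at h1
    rw [h1]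
    exact g.injective.eq_iff

/-- **reduction of C2 to primitive systems of lines** -/
theorem c2U_red [Finite K] [Module.Finite K V] {b : Cl K V} (hb : b.IsU) (hn : 3 ≤ Module.finrank K V)
    {G : Subgroup (Equiv.Perm V)} (hG : G ≤ Sim b) (hsol : Group.IsSolvable G) (hhm : ∀ a : Kˣ, hm K V a ∈ G)
    (hTI : ∀ U : Submodule K V, b.TI U → G ≤ StabS U → U = ⊥) {κ : Type} [Fintype κ] (hκ : 2 ≤ Fintype.card κ)
    {W : κ → Submodule K V} (hS : Sys b G W) :
    FiveBV b G ∨ ∃ (ι : Type) (_ : Fintype ι) (_ : Nontrivial ι) (U : ι → Submodule K V) (col : ι → Fin 5),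
      Sys b G U ∧ (∀ i, Module.finrank K (U i) = 1) ∧ (∀ i j, ∃ g ∈ G, ∃ π, Pm U g π ∧ π i = j) ∧
      ∀ g ∈ G, ∀ π, Pm U g π → (∀ i, col (π i) = col i) → π = 1 := by
  classical
  have hfin : Finite V := Module.finite_of_finite K
  by_cases hinv : ∃ W' : Submodule K V, W' ≠ ⊥ ∧ W' ≠ ⊤ ∧ b.ND W' ∧ G ≤ StabS W'
  · obtain ⟨W', h0, h1, h2, h3⟩ := hinv
    exact Or.inl (fiveBV_C1U hb hn hG hsol hhm hTI h0 h1 h2 h3)
  obtain ⟨ι, _, hnt, U, col, hU, -, hcol⟩ := exists_col hG inferInstance hsol hκ hS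
  -- transitivity
  have htr : ∀ i j, ∃ g ∈ G, ∃ π, Pm U g π ∧ π i = j := by
    intro i
    by_contra hcon
    push Not at hcon
    obtain ⟨j, hj⟩ := hcon
    apply hinv
    let O : Set ι := {l | ∃ g ∈ G, ∃ π, Pm U g π ∧ π i = l}
    have hjO : j ∉ O := by
      rintro ⟨g, hg, π, hπ, h⟩
      exact hj g hg π hπ h
    have hiO : i ∈ O := ⟨1, G.one_mem, 1, H57.FC.Pm.one U, rfl⟩
    let W' : Submodule K V := ⨆ l : O, U l
    have hW'j : ∀ x ∈ W', ∀ y ∈ U j, b.B x y = 0 := by
      intro x hx y hy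
      change x ∈ ⨆ l : O, U l at hx
      induction hx using Submodule.iSup_induction' with
      | mem l x hx => exact hU.blk.ort l j (fun h => hjO (h ▸ l.2)) x hx y hy
      | zero => exact zero_left b y
      | add x x' _ _ h1 h2 => rw [b.add_left, h1, h2, add_zero]
    have hle : ∀ l : ι, l ∈ O → U l ≤ W' := fun l hl => le_iSup (fun l : O => U l) ⟨l, hl⟩
    refine ⟨W', fun h => hU.ne i ?_, fun h => hU.ne j ?_, ?_, ?_⟩
    · rw [eq_bot_iff, ← h]
      exact hle i hiO
    · rw [eq_bot_iff]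
      intro y hy
      refine hU.blk.nondeg hy fun z hz => ?_
      exact hW'j y (by rw [h]; trivial) z hz
    · intro x hx hx'
      refine b.nondeg x fun y => ?_
      have hy : y ∈ ⨆ i, U i := by rw [hU.blk.top]; trivial
      induction hy using Submodule.iSup_induction' with
      | mem l y hy =>
        by_cases hl : l ∈ O
        · exact hx' y (hle l hl hy)
        · change x ∈ ⨆ l : O, U l at hx
          clear hx'
          induction hx using Submodule.iSup_induction' with
          | mem m x hx => exact hU.blk.ort m l (fun h => hl (h ▸ m.2)) x hx y hy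
          | zero => exact zero_left b y
          | add x x' _ _ h1 h2 => rw [b.add_left, h1, h2, add_zero]
      | zero => exact zero_right b x
      | add y y' _ _ h1 h2 => rw [b.add_right, h1, h2, add_zero]
    · intro g hg
      refine mem_StabS_of_le fun x hx => ?_
      obtain ⟨σ, μ, hs⟩ := hG hg
      obtain ⟨π, hπ⟩ := hU.pm g hg
      change x ∈ ⨆ l : O, U l at hx
      induction hx using Submodule.iSup_induction' with
      | mem l x hx =>
        obtain ⟨l, g', hg', π', hπ', hl⟩ := l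
        refine hle (π l) ⟨g * g', G.mul_mem hg hg', π * π', hπ.mul hπ', ?_⟩ ((hπ l x).2 hx)
        rw [Equiv.Perm.mul_apply, hl]
      | zero => rw [hs.map_zero]; exact Submodule.zero_mem _
      | add x x' _ _ h1 h2 => rw [hs.add]; exact Submodule.add_mem _ h1 h2
  -- equal dimensions
  have hdim : ∀ i j, Module.finrank K (U i) = Module.finrank K (U j) := by
    intro i j
    obtain ⟨g, hg, π, hπ, rfl⟩ := htr i j
    have h1 : Nat.card (U i) = Nat.card (U (π i)) := by
      refine Nat.card_congr ⟨fun x => ⟨g x, (hπ i x).2 x.2⟩, fun x => ⟨g⁻¹ x, ?_⟩, fun x => ?_, fun x => ?_⟩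
      · have := (hπ i (g⁻¹ x)).1 (by
          have e1 : g (g⁻¹ (x : V)) = x := by simp
          rw [e1]
          exact x.2)
        exact this
      · apply Subtype.ext
        simp
      · apply Subtype.ext
        simp
    have h2 := Module.natCard_eq_pow_finrank (K := K) (V := U i)
    have h3 := Module.natCard_eq_pow_finrank (K := K) (V := U (π i))
    rw [h2, h3] at h1
    exact Nat.pow_right_injective (Finite.one_lt_card (α := K)) h1
  obtain ⟨i₀, -⟩ := exists_pair_ne ι
  by_cases h2 : 2 ≤ Module.finrank K (U i₀)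
  · left
    exact core2U hb hG hsol hhm hTI hU (fun i => by rw [hdim i i₀]; exact h2) col hcol
  · right
    refine ⟨ι, inferInstance, hnt, U, col, hU, fun i => ?_, htr, hcol⟩
    have h3 : Module.finrank K (U i) ≠ 0 := fun h => hU.ne i (Submodule.finrank_eq_zero.1 h)
    have h4 := hdim i i₀
    omega

end

/-- **`StmtBC2` for unitary forms, blocks of dimension `≥ 2`** -/
theorem stmtBC2U2 (hP : StmtBPar.{u, v}) : StmtBC2On.{u, v} true (fun d => 2 ≤ d) := by
  intro K _ _ V _ _ _ b hk hbig S hS hsol k d e hd2 hk2 hd he hadj hr hp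
  by_cases hTI : ∀ W : Submodule K V, b.TI W → (∀ f ∈ S, Stb f W) → W = ⊥
  · have hfin : Finite V := Module.finite_of_finite K
    have hne : ∀ i, LinearMap.range (e i) ≠ ⊥ := by
      intro i h0
      have := hr i
      rw [h0, finrank_bot] at this
      omega
    have hnt : Nontrivial V := by
      obtain ⟨v, hv, hv0⟩ := Submodule.exists_mem_ne_zero_of_ne_bot (hne ⟨0, by omega⟩)
      exact ⟨⟨v, 0, hv0⟩⟩
    refine fiveB_of_up hS (c2V_two (hk.1 rfl) (up_le_Sim hS) (up_solv S hsol) (hm_mem_up S) (fun W' hW' hg => ?_)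
      (κ := Fin k) (by rw [Fintype.card_fin]; exact hk2) (sys_of he hadj hne hp) fun i => by rw [hr]; exact hd2)
    exact hTI W' hW' (stb_of_up hS hg)
  · push Not at hTI
    obtain ⟨W, h1, h2, h3⟩ := hTI
    exact hP K V b hbig S hS hsol ⟨W, h3, h1, h2⟩

end Cfsg.Agent.H499.FC
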