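import Cfsg.Agent.H412.FC.Lang
import Cfsg.Agent.H903.SylRegU
import Cfsg.Agent.S4374

/-!
# S5764, unitary groups, class C1 (helper499)

`eich` : Eichler transformations `E(x) = x + B(x,u)v + (ρB(x,u) - B(x,v))u`; `eich_fix` : if `g` and `E g E⁻¹` preserve
the orthogonal blocks `W ∋ u` and `W' ∋ v` then `g u = c u`, `g v = c' v`, `c' τ(c) = μ`; `base3` : S4374 on a
non-degenerate invariant subspace; `fiveBV_C1U` : the theorem.
-/

set_option autoImplicit false

namespace Cfsg.Agent.H499.FC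

open Subgroup Cfsg Cfsg.Agent.H198.FC Cfsg.Agent.H412.FC

universe u v

section basic

variable {K : Type u} [Field K] {V : Type v} [AddCommGroup V] [Module K V]

theorem zero_left (b : Cl K V) (w : V) : b.B 0 w = 0 := by
  have := b.smul_left 0 0 w
  rwa [zero_smul, zero_mul] at this

theorem zero_right (b : Cl K V) (w : V) : b.B w 0 = 0 := by
  have := b.smul_right 0 w 0
  rwa [zero_smul, map_zero, zero_mul] at this

theorem neg_left (b : Cl K V) (v w : V) : b.B (-v) w = -b.B v w := by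
  have := b.smul_left (-1) v w
  rwa [neg_one_smul, neg_one_mul] at this

theorem neg_right (b : Cl K V) (v w : V) : b.B v (-w) = -b.B v w := by
  have := b.smul_right (-1) v w
  rwa [neg_one_smul, map_neg, map_one, neg_one_mul] at this

theorem sub_left (b : Cl K V) (v v' w : V) : b.B (v - v') w = b.B v w - b.B v' w := by
  rw [sub_eq_add_neg, b.add_left, neg_left, sub_eq_add_neg]

theorem sub_right (b : Cl K V) (v w w' : V) : b.B v (w - w') = b.B v w - b.B v w' := by
  rw [sub_eq_add_neg, b.add_right, neg_right, sub_eq_add_neg]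

theorem skew {b : Cl K V} (h : ∀ v, b.B v v = 0) (v w : V) : b.B w v = -b.B v w := by
  have h1 := h (v + w)
  rw [b.add_left, b.add_right, b.add_right, h, h, zero_add, add_zero] at h1
  exact eq_neg_of_add_eq_zero_right h1

theorem refl0 (b : Cl K V) {v w : V} (h : b.B v w = 0) : b.B w v = 0 := by
  rcases b.typ with ⟨_, h1⟩ | ⟨_, h1⟩
  · rw [h1, h, map_zero]
  · rw [skew h1, h, neg_zero]

/-- the orthogonal complement -/
def orth (b : Cl K V) (W : Submodule K V) : Submodule K V where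
  carrier := {v | ∀ w ∈ W, b.B v w = 0}
  add_mem' := by
    intro v v' hv hv' w hw
    rw [b.add_left, hv w hw, hv' w hw, add_zero]
  zero_mem' := fun w _ => zero_left b w
  smul_mem' := by
    intro a v hv w hw
    rw [b.smul_left, hv w hw, mul_zero]

theorem mem_orth {b : Cl K V} {W : Submodule K V} {v : V} : v ∈ orth b W ↔ ∀ w ∈ W, b.B v w = 0 := Iff.rfl

/-- the orthogonal projection to a non-degenerate subspace -/
theorem exists_proj [Finite V] {b : Cl K V} {U : Submodule K V} (hU : b.ND U) (w : V) :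
    ∃ u ∈ U, w - u ∈ orth b U := by
  classical
  have : Module.Finite K V := Module.Finite.of_finite
  let f : U → Module.Dual K U := fun u =>
    { toFun := fun x => b.B x u
      map_add' := fun x y => b.add_left x y u
      map_smul' := fun a x => b.smul_left a x u }
  have hf : Function.Injective f := by
    intro u u' h
    have h1 : ∀ x : U, b.B x u = b.B x u' := fun x => LinearMap.congr_fun h x
    apply Subtype.ext
    rw [← sub_eq_zero]
    refine hU _ (U.sub_mem u.2 u'.2) fun x hx => ?_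
    apply refl0
    rw [sub_right, h1 ⟨x, hx⟩, sub_self]
  let e : Module.Dual K U ≃ₗ[K] U := LinearEquiv.ofFinrankEq _ _ Subspace.dual_finrank_eq
  have hs : Function.Surjective (fun u => e (f u)) :=
    Finite.injective_iff_surjective.1 fun a c hac => hf (e.injective hac)
  let φ : Module.Dual K U :=
    { toFun := fun x => b.B x w
      map_add' := fun x y => b.add_left x y w
      map_smul' := fun a x => b.smul_left a x w }
  obtain ⟨u, hu⟩ := hs (e φ)
  have h1 : f u = φ := e.injective hu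
  refine ⟨u, u.2, fun x hx => ?_⟩
  apply refl0
  have h2 : b.B x u = b.B x w := LinearMap.congr_fun h1 ⟨x, hx⟩
  rw [sub_right, h2, sub_self]

theorem sup_orth [Finite V] {b : Cl K V} {U : Submodule K V} (hU : b.ND U) : U ⊔ orth b U = ⊤ := by
  rw [eq_top_iff]
  intro w _
  obtain ⟨u, hu, hw⟩ := exists_proj hU w
  have : w = u + (w - u) := by abel
  rw [this]
  exact Submodule.add_mem_sup hu hw

theorem orth_ND [Finite V] {b : Cl K V} {U : Submodule K V} (hU : b.ND U) : b.ND (orth b U) := by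
  intro v hv h
  refine b.nondeg v fun w => ?_
  obtain ⟨u, hu, hw⟩ := exists_proj hU w
  have e : w = u + (w - u) := by abel
  rw [e, b.add_right, hv u hu, h _ hw, add_zero]

theorem ND.exists_one [Finite V] {b : Cl K V} {U : Submodule K V} (hU : b.ND U) {u : V} (hu : u ∈ U) (h0 : u ≠ 0) :
    ∃ y ∈ U, b.B y u = 1 := by
  by_contra hcon
  push Not at hcon
  apply h0
  refine hU u hu fun w hw => refl0 b ?_
  by_contra hne
  refine hcon ((b.B w u)⁻¹ • w) (U.smul_mem _ hw) ?_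
  rw [b.smul_left, inv_mul_cancel₀ hne]

/-- the stabilizer of `U` stabilizes the orthogonal complement -/
theorem stab_orth {b : Cl K V} {U : Submodule K V} {g : Equiv.Perm V} (hg : g ∈ Sim b) (hU : g ∈ StabS U) :
    g ∈ StabS (orth b U) := by
  obtain ⟨σ, μ, hs⟩ := hg
  intro v
  constructor
  · intro h w hw
    have h1 := h (g w) ((hU w).2 hw)
    rw [hs.form] at h1
    exact (map_eq_zero σ).1 ((mul_eq_zero.1 h1).resolve_left hs.ne)
  · intro h w hw
    obtain ⟨w', rfl⟩ := g.surjective w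
    rw [hs.form, h w' ((hU w').1 hw), map_zero, mul_zero]

theorem hfU {b : Cl K V} [Finite K] (hb : b.IsU) : Cfsg.Agent.H903.SylReg.HF b.τ b.B where
  inv := b.invol
  ne := hb.1
  add := b.add_left
  smul := b.smul_left
  symm := hb.2

/-- surjectivity of the trace -/
theorem exists_trace {b : Cl K V} (hb : b.IsU) {c : K} (hc : b.τ c = c) : ∃ t : K, t + b.τ t = c := by
  obtain ⟨s, hs⟩ : ∃ s : K, s + b.τ s ≠ 0 := by
    by_contra hcon
    push Not at hcon
    obtain ⟨a, ha⟩ := hb.1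
    have h1 := hcon 1
    rw [map_one] at h1
    have h2 := hcon a
    apply ha
    have h3 : b.τ a = -a := eq_neg_of_add_eq_zero_right h2
    rw [h3]
    have h4 : (1 + 1) * a = 0 := by rw [h1, zero_mul]
    have h5 : a + a = 0 := by rw [← h4]; ring
    exact (eq_neg_of_add_eq_zero_right h5).symm
  refine ⟨c * s / (s + b.τ s), ?_⟩
  rw [map_div₀, map_mul, map_add, b.invol, hc, add_comm (b.τ s) s]
  field_simp

/-! ### Eichler transformations -/

/-- the Eichler transformation -/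
theorem exists_eich [Module.Finite K V] {b : Cl K V} (hb : b.IsU) {u v : V} (huu : b.B u u = 0) (huv : b.B u v = 0) :
    ∃ (E : V ≃ₗ[K] V) (ρ : K), LinearMap.det (E : V →ₗ[K] V) = 1 ∧ (∀ x y, b.B (E x) (E y) = b.B x y) ∧
      ∀ x, E x = x + b.B x u • v + (ρ * b.B x u - b.B x v) • u := by
  have hvu : b.B v u = 0 := refl0 b huv
  obtain ⟨ρ, hρ⟩ := exists_trace hb (c := -b.B v v) (by rw [map_neg, ← hb.2])
  let f1 : Module.Dual K V :=
    { toFun := fun x => b.B x u
      map_add' := fun x y => b.add_left x y u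
      map_smul' := fun a x => b.smul_left a x u }
  let f2 : Module.Dual K V :=
    { toFun := fun x => ρ * b.B x u - b.B x v
      map_add' := fun x y => by rw [b.add_left, b.add_left]; ring
      map_smul' := fun a x => by
        simp only [b.smul_left, smul_eq_mul, RingHom.id_apply]; ring }
  have h1 : f1 v = 0 := hvu
  have h2 : f2 u = 0 := by
    show ρ * b.B u u - b.B u v = 0
    rw [huu, huv, mul_zero, sub_zero]
  let E := (LinearEquiv.transvection h2).trans (LinearEquiv.transvection h1)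
  have hE : ∀ x, E x = x + b.B x u • v + (ρ * b.B x u - b.B x v) • u := by
    intro x
    have e1 : E x = LinearEquiv.transvection h1 (LinearEquiv.transvection h2 x) := rfl
    rw [e1, LinearEquiv.transvection.apply, LinearEquiv.transvection.apply]
    show x + f2 x • u + (b.B (x + f2 x • u) u) • v = _
    rw [b.add_left, b.smul_left, huu, mul_zero, add_zero]
    show x + (ρ * b.B x u - b.B x v) • u + _ = _
    abel
  refine ⟨E, ρ, ?_, ?_, hE⟩
  · have e1 : (E : V →ₗ[K] V) = (LinearEquiv.transvection h1 : V →ₗ[K] V) ∘ₗ (LinearEquiv.transvection h2 : V →ₗ[K] V) := rfl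
    rw [e1, LinearMap.det_comp, LinearEquiv.transvection.coe_toLinearMap, LinearEquiv.transvection.coe_toLinearMap,
      LinearMap.transvection.det, LinearMap.transvection.det, h1, h2, add_zero, mul_one]
  · intro x y
    rw [hE, hE]
    simp only [b.add_left, b.add_right, b.smul_left, b.smul_right, huu, huv, hvu, mul_zero, add_zero]
    have e1 : b.B u y = b.τ (b.B y u) := hb.2 _ _
    have e2 : b.B v y = b.τ (b.B y v) := hb.2 _ _
    rw [e1, e2, map_sub, map_mul]
    have e3 : b.B v v = -(ρ + b.τ ρ) := by rw [hρ, neg_neg]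
    rw [e3]
    ring

/-- two elements of `W` and `orth W` with sum zero -/
theorem split {b : Cl K V} {W W' : Submodule K V} (hW : b.ND W) (hWW : ∀ x ∈ W, ∀ y ∈ W', b.B x y = 0) {x x' y y' : V}
    (hx : x ∈ W) (hx' : x' ∈ W) (hy : y ∈ W') (hy' : y' ∈ W') (h : x + y = x' + y') : x = x' ∧ y = y' := by
  have h1 : x = x' := by
    rw [← sub_eq_zero]
    refine hW _ (W.sub_mem hx hx') fun w hw => refl0 b ?_
    have h2 : x - x' = y' - y := by
      rw [sub_eq_sub_iff_add_eq_add, h]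
      abel
    rw [h2]
    exact hWW w hw _ (W'.sub_mem hy' hy)
  subst h1
  exact ⟨rfl, add_left_cancel h⟩

/-- **Lines fixed by an element whose conjugate by an Eichler transformation preserves the blocks.** -/
theorem eich_fix {b : Cl K V} {W W' : Submodule K V} (hW : b.ND W) (hWW : ∀ x ∈ W, ∀ y ∈ W', b.B x y = 0)
    {u v : V} {ρ : K} {E : V ≃ₗ[K] V} (hE : ∀ x, E x = x + b.B x u • v + (ρ * b.B x u - b.B x v) • u)
    (hu : u ∈ W) (hv : v ∈ W') (huu : b.B u u = 0) (hv0 : v ≠ 0)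
    {y₁ y₂ : V} (hy₁ : y₁ ∈ W) (hy₂ : y₂ ∈ W') (h₁ : b.B y₁ u = 1) (h₂ : b.B y₂ v = 1)
    {g g' : Equiv.Perm V} {σ σ' : K ≃+* K} {μ μ' : K} (hg : IsSim b g σ μ) (hg' : IsSim b g' σ' μ')
    (hgW : g ∈ StabS W) (hgW' : g ∈ StabS W') (hg'W : g' ∈ StabS W) (hg'W' : g' ∈ StabS W')
    (hc : ∀ x, g' (E x) = E (g x)) : ∃ c c' : K, g u = c • u ∧ g v = c' • v ∧ c' * b.τ c = μ := by
  have huv : b.B u v = 0 := hWW u hu v hv
  have hW'W : ∀ y ∈ W', ∀ x ∈ W, b.B y x = 0 := fun y hy x hx => refl0 b (hWW x hx y hy)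
  -- on `W'`
  have a1 : ∀ y ∈ W', σ' (b.B y v) • g' u = b.B (g y) v • u ∧ g' y = g y := by
    intro y hy
    have h := hc y
    rw [hE, hE, hW'W y hy u hu, hW'W (g y) ((hgW' y).2 hy) u hu, zero_smul, add_zero, add_zero, mul_zero,
      zero_sub, zero_sub, neg_smul, neg_smul, ← sub_eq_add_neg, ← sub_eq_add_neg, hg'.map_sub,
      hg'.smul] at h
    have h' : σ' (b.B y v) • g' u + g y = b.B (g y) v • u + g' y := by
      rw [sub_eq_sub_iff_add_eq_add] at h
      rw [add_comm, ← h, add_comm]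
    have := split hW hWW (W.smul_mem _ ((hg'W u).2 hu)) (W.smul_mem _ hu) ((hgW' y).2 hy) ((hg'W' y).2 hy) h'
    exact ⟨this.1, this.2.symm⟩
  have a2 : g' u = b.B (g y₂) v • u := by
    have := (a1 y₂ hy₂).1
    rwa [h₂, map_one, one_smul] at this
  have a3 : g' v = g v := (a1 v hv).2
  -- on `W`
  have b1 : ∀ y ∈ W, g' y + σ' (ρ * b.B y u) • g' u = g y + (ρ * b.B (g y) u) • u ∧
      σ' (b.B y u) • g' v = b.B (g y) u • v := by
    intro y hy
    have h := hc y
    rw [hE, hE, hWW y hy v hv, hWW (g y) ((hgW y).2 hy) v hv, sub_zero, sub_zero, hg'.add, hg'.add, hg'.smul,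
      hg'.smul] at h
    have h' : (g' y + σ' (ρ * b.B y u) • g' u) + σ' (b.B y u) • g' v =
        (g y + (ρ * b.B (g y) u) • u) + b.B (g y) u • v := by
      rw [add_right_comm, h, add_right_comm]
    exact split hW hWW (W.add_mem ((hg'W y).2 hy) (W.smul_mem _ ((hg'W u).2 hu)))
      (W.add_mem ((hgW y).2 hy) (W.smul_mem _ hu)) (W'.smul_mem _ ((hg'W' v).2 hv)) (W'.smul_mem _ hv) h'
  have b2 : g' v = b.B (g y₁) u • v := by
    have := (b1 y₁ hy₁).2
    rwa [h₁, map_one, one_smul] at this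
  have b3 : g' u = g u := by
    obtain ⟨h3, h4⟩ := b1 u hu
    rw [huu, map_zero, zero_smul] at h4
    have h5 : b.B (g u) u = 0 := (smul_eq_zero.1 h4.symm).resolve_right hv0
    rw [huu, mul_zero, map_zero, zero_smul, add_zero, h5, mul_zero, zero_smul, add_zero] at h3
    exact h3
  refine ⟨b.B (g y₂) v, b.B (g y₁) u, by rw [← b3, a2], by rw [← a3, b2], ?_⟩
  have h6 := hg.form y₁ u
  rw [h₁, map_one, mul_one, ← b3, a2, b.smul_right] at h6
  rw [← h6]
  ring

/-! ### S4374 on an invariant non-degenerate subspace -/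

/-- **Base of size three** on an invariant non-degenerate subspace. -/
theorem base3 [Finite V] {b : Cl K V} {G : Subgroup (Equiv.Perm V)} (hG : G ≤ Sim b) (hsol : Group.IsSolvable G)
    (hhm : ∀ a : Kˣ, hm K V a ∈ G) {W : Submodule K V} (hGW : G ≤ StabS W)
    (hTI : ∀ U : Submodule K V, U ≤ W → b.TI U → G ≤ StabS U → U = ⊥) :
    ∃ c : Fin 3 → V, (∀ i, c i ∈ W) ∧ ∀ g ∈ G, (∀ i, g (c i) = c i) → ∀ w ∈ W, g w = w := by
  classical
  have hst : ∀ (g : G) (w : V), (g : Equiv.Perm V) w ∈ W ↔ w ∈ W := fun g => hGW g.2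
  let ρ : G →* Equiv.Perm {x : V // x ∈ W} :=
    { toFun := fun g => (g : Equiv.Perm V).subtypePerm (hst g)
      map_one' := by ext; rfl
      map_mul' := fun g h => by ext; rfl }
  have hρ : ∀ (g : G) (w : {x : V // x ∈ W}), ((ρ g w : {x : V // x ∈ W}) : V) = (g : Equiv.Perm V) w := fun _ _ => rfl
  have hadd : ∀ (g : G) (v w : V), (g : Equiv.Perm V) (v + w) = (g : Equiv.Perm V) v + (g : Equiv.Perm V) w := by
    intro g
    obtain ⟨σ, μ, hs⟩ := hG g.2
    exact hs.add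
  let _ : DistribMulAction ρ.range W :=
    { smul := fun a w => (a : Equiv.Perm {x : V // x ∈ W}) w
      one_smul := fun w => rfl
      mul_smul := fun a a' w => rfl
      smul_zero := fun a => by
        obtain ⟨_, g, rfl⟩ := a
        apply Subtype.ext
        show (g : Equiv.Perm V) ((0 : W) : V) = 0
        obtain ⟨σ, μ, hs⟩ := hG g.2
        exact hs.map_zero
      smul_add := fun a v w => by
        obtain ⟨_, g, rfl⟩ := a
        apply Subtype.ext
        exact hadd g v w }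
  have hsm : ∀ (g : G) (w : W), (((⟨ρ g, g, rfl⟩ : ρ.range) • w : W) : V) = (g : Equiv.Perm V) w := fun _ _ => rfl
  have : FaithfulSMul ρ.range W := ⟨fun {a a'} h => Subtype.ext (Equiv.ext h)⟩
  have hsolA : Group.IsSolvable ρ.range :=
    Group.isSolvable_of_surjective (f := ρ.rangeRestrict) ρ.rangeRestrict_surjective
  obtain ⟨v₁, v₂, v₃, hv⟩ := S4374.result (A := ρ.range) (V := W) hsolA (by
    intro U hU
    have hU' : ∀ g : G, ∀ w : W, w ∈ U → (⟨(g : Equiv.Perm V) w, (hst g w).2 w.2⟩ : W) ∈ U :=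
      fun g w hw => hU ⟨ρ g, g, rfl⟩ w hw
    let U₁ : Submodule K V :=
      { carrier := {x | ∃ h : x ∈ W, (⟨x, h⟩ : W) ∈ U}
        add_mem' := by
          rintro x y ⟨hx, hx'⟩ ⟨hy, hy'⟩
          exact ⟨W.add_mem hx hy, U.add_mem hx' hy'⟩
        zero_mem' := ⟨W.zero_mem, U.zero_mem⟩
        smul_mem' := by
          rintro a x ⟨hx, hx'⟩
          refine ⟨W.smul_mem a hx, ?_⟩
          by_cases ha : a = 0
          · subst ha
            have e : (⟨(0 : K) • x, W.smul_mem 0 hx⟩ : W) = 0 := Subtype.ext (zero_smul K x)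
            rw [e]
            exact U.zero_mem
          · exact hU' ⟨hm K V (Units.mk0 a ha), hhm _⟩ ⟨x, hx⟩ hx' }
    have hU₁W : U₁ ≤ W := fun x hx => hx.1
    have hGU₁ : G ≤ StabS U₁ := fun g hg => mem_StabS_of_le fun w hw => by
      obtain ⟨h1, h2⟩ := hw
      exact ⟨(hst ⟨g, hg⟩ w).2 h1, hU' ⟨g, hg⟩ ⟨w, h1⟩ h2⟩
    have hGo : G ≤ StabS (orth b U₁) := fun g hg => stab_orth (hG hg) (hGU₁ hg)
    have hND : b.ND U₁ := by
      intro v hv hv'
      have h1 : U₁ ⊓ orth b U₁ = ⊥ := by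
        refine hTI _ (inf_le_left.trans hU₁W) ?_ ?_
        · intro x hx y hy
          exact hx.2 y hy.1
        · intro g hg w
          exact ⟨fun h => ⟨(hGU₁ hg w).1 h.1, (hGo hg w).1 h.2⟩, fun h => ⟨(hGU₁ hg w).2 h.1, (hGo hg w).2 h.2⟩⟩
      have h2 : v ∈ U₁ ⊓ orth b U₁ := ⟨hv, hv'⟩
      rw [h1] at h2
      exact h2
    let U₂ : AddSubgroup W :=
      { carrier := {x | (x : V) ∈ orth b U₁}
        add_mem' := fun {x y} hx hy => (orth b U₁).add_mem hx hy
        zero_mem' := (orth b U₁).zero_mem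
        neg_mem' := fun {x} hx => (orth b U₁).neg_mem hx }
    refine ⟨U₂, ?_, ?_, ?_⟩
    · rintro ⟨_, g, rfl⟩ w hw
      exact (hGo g.2 w).2 hw
    · rw [eq_bot_iff]
      rintro x ⟨hx1, hx2⟩
      have h3 : (x : V) ∈ U₁ := ⟨x.2, hx1⟩
      exact Subtype.ext (hND _ h3 hx2)
    · rw [eq_top_iff]
      intro x _
      obtain ⟨u, hu, hxu⟩ := exists_proj hND (x : V)
      have h4 : (x : V) - u ∈ W := W.sub_mem x.2 (hU₁W hu)
      have e : x = (⟨u, hU₁W hu⟩ : W) + ⟨(x : V) - u, h4⟩ := Subtype.ext (by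
        show (x : V) = u + (x - u)
        abel)
      rw [e]
      exact AddSubgroup.add_mem_sup hu.2 hxu)
  refine ⟨![v₁, v₂, v₃], fun i => ?_, fun g hg h w hw => ?_⟩
  · fin_cases i
    exacts [v₁.2, v₂.2, v₃.2]
  · have h5 := hv ⟨ρ ⟨g, hg⟩, ⟨g, hg⟩, rfl⟩ (Subtype.ext (h 0)) (Subtype.ext (h 1)) (Subtype.ext (h 2))
    have h6 : ρ ⟨g, hg⟩ = 1 := congrArg Subtype.val h5
    have h7 := hρ ⟨g, hg⟩ ⟨w, hw⟩
    rw [h6] at h7
    exact h7.symm

/-! ### Isotropic vectors -/

/-- the isotropic vectors of a non-degenerate subspace of dimension `≥ 2` are not contained in a hyperplane -/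
theorem exists_iso_ne [Finite K] [Finite V] {b : Cl K V} (hb : b.IsU) {I : Submodule K V} (hI : b.ND I)
    (h2 : 2 ≤ Module.finrank K I) {x : V} (hx : x ∈ I) (hx0 : x ≠ 0) : ∃ z ∈ I, b.B z z = 0 ∧ b.B x z ≠ 0 := by
  have H := hfU hb
  by_cases hxx : b.B x x = 0
  · obtain ⟨y, hy, hy1⟩ := ND.exists_one hI hx hx0
    obtain ⟨t, ht⟩ := exists_trace hb (c := -b.B y y) (by rw [map_neg, ← hb.2])
    have hxy : b.B x y = 1 := by rw [hb.2 y x, hy1, map_one]
    refine ⟨y + t • x, I.add_mem hy (I.smul_mem _ hx), ?_, ?_⟩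
    · rw [b.add_left, b.add_right, b.add_right, b.smul_left, b.smul_left, b.smul_right, b.smul_right, hxx, hy1, hxy,
        mul_zero, mul_zero, add_zero, mul_one, mul_one]
      linear_combination ht
    · rw [b.add_right, b.smul_right, hxx, mul_zero, add_zero, hxy]
      exact one_ne_zero
  · obtain ⟨y, hy, hyx⟩ : ∃ y ∈ I, y ∉ Submodule.span K {x} := by
      by_contra hcon
      push Not at hcon
      have h1 : I ≤ Submodule.span K {x} := hcon
      have h3 := Submodule.finrank_mono h1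
      have h4 := finrank_span_le_card (R := K) ({x} : Set V)
      simp at h4
      omega
    set y' := y - (b.B y x / b.B x x) • x with hy'
    have hy'I : y' ∈ I := I.sub_mem hy (I.smul_mem _ hx)
    have horth : b.B y' x = 0 := H.orth_part hxx y
    have horth' : b.B x y' = 0 := refl0 b horth
    have hy'0 : y' ≠ 0 := by
      intro h0
      apply hyx
      rw [Submodule.mem_span_singleton]
      exact ⟨b.B y x / b.B x x, (sub_eq_zero.1 h0).symm⟩
    by_cases hn : b.B y' y' = 0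
    · obtain ⟨w, hw, hw1⟩ := ND.exists_one hI hy'I hy'0
      set w' := w - (b.B w x / b.B x x) • x with hw'
      have hw'I : w' ∈ I := I.sub_mem hw (I.smul_mem _ hx)
      have hwx : b.B w' x = 0 := H.orth_part hxx w
      have hxw : b.B x w' = 0 := refl0 b hwx
      have hwy : b.B w' y' = 1 := by
        rw [hw', sub_left, b.smul_left, horth', mul_zero, sub_zero, hw1]
      have hyw : b.B y' w' = 1 := by rw [hb.2 w' y', hwy, map_one]
      obtain ⟨t, ht⟩ := exists_trace hb (c := -b.B x x - b.B w' w') (by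
        rw [map_sub, map_neg, ← hb.2, ← hb.2])
      refine ⟨x + (w' + t • y'), I.add_mem hx (I.add_mem hw'I (I.smul_mem _ hy'I)), ?_, ?_⟩
      · simp only [b.add_left, b.add_right, b.smul_left, b.smul_right, hn, hwx, hxw, hwy, hyw, horth, horth', mul_zero,
          add_zero, mul_one, zero_add]
        linear_combination ht
      · rw [b.add_right, b.add_right, b.smul_right, horth', hxw, mul_zero, add_zero, add_zero]
        exact hxx
    · obtain ⟨t, ht, htc⟩ := H.norm (c := - (b.B x x / b.B y' y')) (neg_ne_zero.2 (div_ne_zero hxx hn)) (by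
        rw [map_neg, map_div₀, ← hb.2, ← hb.2])
      refine ⟨x + t • y', I.add_mem hx (I.smul_mem _ hy'I), ?_, ?_⟩
      · rw [b.add_left, b.add_right, b.add_right, b.smul_left, b.smul_left, b.smul_right, b.smul_right, horth,
          horth', mul_zero, mul_zero, ← mul_assoc, htc]
        field_simp
        ring
      · rw [b.add_right, b.smul_right, horth', mul_zero, add_zero]
        exact hxx

/-- four isotropic vectors spanning a space containing three given vectors -/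
theorem exists_four [Finite K] [Finite V] {b : Cl K V} (hb : b.IsU) {I : Submodule K V} (hI : b.ND I)
    (h2 : 2 ≤ Module.finrank K I) (c : Fin 3 → V) (hc : ∀ i, c i ∈ I) {i₀ : Fin 3} (h0 : c i₀ ≠ 0) {γ : K}
    (hγ : γ ≠ 0) : ∃ u : Fin 4 → V, (∀ j, u j ∈ I ∧ b.B (u j) (u j) = 0 ∧ u j ≠ 0) ∧
      (∀ i, c i ∈ Submodule.span K (Set.range u)) ∧ ∃ j j', b.B (u j) (u j') = γ := by
  obtain ⟨z₀, hz₀, hzz₀, hxz₀⟩ := exists_iso_ne hb hI h2 (hc i₀) h0
  -- rescale
  obtain ⟨z, hz, hzz, hxz⟩ : ∃ z ∈ I, b.B z z = 0 ∧ b.B (c i₀) z = γ := by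
    refine ⟨b.τ (γ / b.B (c i₀) z₀) • z₀, I.smul_mem _ hz₀, ?_, ?_⟩
    · rw [b.smul_left, b.smul_right, hzz₀, mul_zero, mul_zero]
    · rw [b.smul_right, b.invol, div_mul_cancel₀ _ hxz₀]
  have hz0 : z ≠ 0 := by
    rintro rfl
    rw [zero_right] at hxz
    exact hγ hxz.symm
  -- lift
  have lift : ∀ y ∈ I, b.B y z ≠ 0 → ∃ u ∈ I, b.B u u = 0 ∧ b.B u z = b.B y z ∧ ∃ t : K, u = y + t • z := by
    intro y hy hyz
    obtain ⟨t, ht⟩ := exists_trace hb (c := -b.B y y) (by rw [map_neg, ← hb.2])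
    have hzy : b.B z y ≠ 0 := fun h => hyz (refl0 b h)
    refine ⟨y + (t / b.B z y) • z, I.add_mem hy (I.smul_mem _ hz), ?_, ?_, _, rfl⟩
    · rw [b.add_left, b.add_right, b.add_right, b.smul_left, b.smul_left, b.smul_right, b.smul_right, hzz, mul_zero,
        mul_zero, add_zero, div_mul_cancel₀ _ hzy, map_div₀, ← hb.2 z y, div_mul_cancel₀ _ hyz]
      linear_combination ht
    · rw [b.add_left, b.smul_left, hzz, mul_zero, add_zero]
  obtain ⟨u₀, hu₀, huu₀, huz₀, t₀, ht₀⟩ := lift (c i₀) (hc i₀) (by rw [hxz]; exact hγ)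
  have key : ∀ i, ∃ u ∈ I, b.B u u = 0 ∧ u ≠ 0 ∧ (i = i₀ → u = u₀) ∧ c i ∈ Submodule.span K {u, u₀, z} := by
    intro i
    have hu₀s : ∀ u : V, u₀ ∈ Submodule.span K {u, u₀, z} := fun u => Submodule.subset_span (by simp)
    have hus : ∀ u : V, u ∈ Submodule.span K {u, u₀, z} := fun u => Submodule.subset_span (by simp)
    have hzs : ∀ u : V, z ∈ Submodule.span K {u, u₀, z} := fun u => Submodule.subset_span (by simp)
    have hne : ∀ u : V, b.B u z ≠ 0 → u ≠ 0 := by
      rintro u h rfl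
      exact h (zero_left b z)
    by_cases hi : i = i₀
    · subst hi
      refine ⟨u₀, hu₀, huu₀, hne _ (by rw [huz₀, hxz]; exact hγ), fun _ => rfl, ?_⟩
      have e : c i = u₀ - t₀ • z := by rw [ht₀]; abel
      rw [e]
      exact Submodule.sub_mem _ (hu₀s _) (Submodule.smul_mem _ _ (hzs _))
    · by_cases hyz : b.B (c i) z = 0
      · obtain ⟨u, hu, huu, huz, t, ht⟩ := lift (c i + c i₀) (I.add_mem (hc i) (hc i₀)) (by
          rw [b.add_left, hyz, zero_add, hxz]; exact hγ)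
        refine ⟨u, hu, huu, hne _ (by rw [huz, b.add_left, hyz, zero_add, hxz]; exact hγ), fun h => absurd h hi, ?_⟩
        have e : c i = u - t • z - (u₀ - t₀ • z) := by rw [ht, ht₀]; abel
        rw [e]
        exact Submodule.sub_mem _ (Submodule.sub_mem _ (hus _) (Submodule.smul_mem _ _ (hzs _)))
          (Submodule.sub_mem _ (hu₀s _) (Submodule.smul_mem _ _ (hzs _)))
      · obtain ⟨u, hu, huu, huz, t, ht⟩ := lift (c i) (hc i) hyz
        refine ⟨u, hu, huu, hne _ (by rw [huz]; exact hyz), fun h => absurd h hi, ?_⟩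
        have e : c i = u - t • z := by rw [ht]; abel
        rw [e]
        exact Submodule.sub_mem _ (hus _) (Submodule.smul_mem _ _ (hzs _))
  choose w hwI hww hw0 hwi hws using key
  refine ⟨Fin.cons z w, fun j => ?_, fun i => ?_, i₀.succ, 0, ?_⟩
  · refine Fin.cases ⟨hz, hzz, hz0⟩ (fun i => ⟨hwI i, hww i, hw0 i⟩) j
  · refine Submodule.span_mono ?_ (hws i)
    rintro x (rfl | rfl | rfl)
    · exact ⟨i.succ, rfl⟩
    · exact ⟨i₀.succ, hwi i₀ rfl⟩
    · exact ⟨0, rfl⟩
  · show b.B (w i₀) z = γ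
    rw [hwi i₀ rfl, huz₀, hxz]

/-! ### Rigid quadruples -/

/-- a generator of `K` kills the field automorphisms -/
theorem exists_gen (K : Type u) [Field K] [Finite K] : ∃ γ : K, γ ≠ 0 ∧ ∀ σ : K ≃+* K, σ γ = γ → ∀ x, σ x = x := by
  obtain ⟨γ, hγ⟩ := IsCyclic.exists_generator (α := Kˣ)
  refine ⟨γ, γ.ne_zero, fun σ hσ x => ?_⟩
  by_cases hx : x = 0
  · rw [hx, map_zero]
  · obtain ⟨k, hk⟩ := Subgroup.mem_zpowers_iff.1 (hγ (Units.mk0 x hx))
    have h1 : x = (γ : K) ^ k := by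
      rw [← Units.val_zpow_eq_zpow_val, hk, Units.val_mk0]
    rw [h1, map_zpow₀, hσ]

/-- a plane containing three dependent vectors -/
theorem exists_plane [Module.Finite K V] {A : Submodule K V} (h2 : 2 ≤ Module.finrank K A) {c : Fin 3 → V}
    (hc : ∀ i, c i ∈ A) (hdep : ¬ LinearIndependent K c) :
    ∃ p₁ p₂ : V, p₁ ∈ A ∧ p₂ ∈ A ∧ (∀ s t : K, s • p₁ + t • p₂ = 0 → s = 0 ∧ t = 0) ∧
      ∀ i, c i ∈ Submodule.span K {p₁, p₂} := by
  classical
  have hU : Submodule.span K (Set.range c) ≤ A := Submodule.span_le.2 (by rintro _ ⟨i, rfl⟩; exact hc i)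
  have hr : Module.finrank K (Submodule.span K (Set.range c)) ≤ 2 := by
    have h1 : Module.finrank K (Submodule.span K (Set.range c)) ≤ 3 := by
      have := finrank_range_le_card (R := K) c
      rwa [Fintype.card_fin] at this
    have h3 : Module.finrank K (Submodule.span K (Set.range c)) ≠ 3 := by
      intro h
      apply hdep
      rw [linearIndependent_iff_card_eq_finrank_span, Fintype.card_fin]
      exact h.symm
    omega
  -- a maximal subspace of dimension at most two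
  have hwf : {P : Submodule K V | Submodule.span K (Set.range c) ≤ P ∧ P ≤ A ∧ Module.finrank K P ≤ 2}.Nonempty :=
    ⟨_, le_rfl, hU, hr⟩
  obtain ⟨P, ⟨hP1, hP2, hP3⟩, hPm⟩ := (measure (fun P : Submodule K V => 2 - Module.finrank K P)).wf.has_min _ hwf
  have hP : Module.finrank K P = 2 := by
    by_contra hne
    have hlt : Module.finrank K P < 2 := by omega
    obtain ⟨a, ha, haP⟩ : ∃ a ∈ A, a ∉ P := by
      by_contra hcon
      push Not at hcon
      have := Submodule.finrank_mono (show A ≤ P from hcon)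
      omega
    have h5 : P < P ⊔ Submodule.span K {a} := by
      refine lt_of_le_of_ne le_sup_left fun h => haP ?_
      rw [h]
      exact Submodule.mem_sup_right (Submodule.mem_span_singleton_self a)
    have h6 := Submodule.finrank_lt_finrank_of_lt h5
    have h7 : Module.finrank K ↥(P ⊔ Submodule.span K {a}) ≤ Module.finrank K P + 1 := by
      have h8 := Submodule.finrank_add_le_finrank_add_finrank P (Submodule.span K {a})
      have h9 := finrank_span_le_card (R := K) ({a} : Set V)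
      simp at h9
      omega
    refine hPm (P ⊔ Submodule.span K {a}) ⟨hP1.trans le_sup_left, sup_le hP2 ?_, by omega⟩ ?_
    · rw [Submodule.span_singleton_le_iff_mem]
      exact ha
    · show 2 - _ < 2 - _
      omega
  let e : Module.Basis (Fin 2) K P := Module.finBasisOfFinrankEq K P hP
  refine ⟨e 0, e 1, hP2 (e 0).2, hP2 (e 1).2, ?_, fun i => ?_⟩
  · intro s t h
    have h1 : s • e 0 + t • e 1 = 0 := Subtype.ext (by simpa using h)
    have h2' := LinearIndependent.pair_iff.1 (by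
      have := e.linearIndependent
      have h3 : (e : Fin 2 → P) = ![e 0, e 1] := by
        ext i
        fin_cases i <;> rfl
      rw [h3] at this
      exact this) s t h1
    exact h2'
  · have h1 : c i ∈ P := hP1 (Submodule.subset_span ⟨i, rfl⟩)
    have h3 := e.sum_repr ⟨c i, h1⟩
    rw [Fin.sum_univ_two] at h3
    have h4 : c i = e.repr ⟨c i, h1⟩ 0 • (e 0 : V) + e.repr ⟨c i, h1⟩ 1 • (e 1 : V) := by
      have := congrArg Subtype.val h3
      simpa using this.symm
    rw [h4]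
    exact Submodule.add_mem _ (Submodule.smul_mem _ _ (Submodule.subset_span (by simp)))
      (Submodule.smul_mem _ _ (Submodule.subset_span (by simp)))

/-- the semilinear maps -/
def Sml (g : Equiv.Perm V) (σ : K ≃+* K) : Prop :=
  (∀ v w, g (v + w) = g v + g w) ∧ ∀ (a : K) (v : V), g (a • v) = σ a • g v

/-- **Rigid quadruples.**  `G` contains the homotheties and has the base `c` on `A`. -/
theorem exists_rigid [Finite K] [Module.Finite K V] {G : Subgroup (Equiv.Perm V)}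
    (hG : ∀ g ∈ G, ∃ σ : K ≃+* K, Sml g σ) (hhm : ∀ a : Kˣ, hm K V a ∈ G) {A : Submodule K V}
    (h2 : 2 ≤ Module.finrank K A) {c : Fin 3 → V} (hc : ∀ i, c i ∈ A)
    (hbase : ∀ g ∈ G, (∀ i, g (c i) = c i) → ∀ w ∈ A, g w = w) :
    ∃ v : Fin 4 → V, (∀ j, v j ∈ A ∧ v j ≠ 0) ∧
      ∀ g ∈ G, (∀ j, ∃ s : K, g (v j) = s • v j) → ∃ s : Kˣ, ∀ w ∈ A, g w = (s : K) • w := by
  -- the last step
  have fin : ∀ g ∈ G, ∀ s : K, s ≠ 0 → (∀ i, g (c i) = s • c i) → ∃ s : Kˣ, ∀ w ∈ A, g w = (s : K) • w := by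
    intro g hg s hs h
    refine ⟨Units.mk0 s hs, fun w hw => ?_⟩
    have h1 := hbase (hm K V (Units.mk0 s hs)⁻¹ * g) (mul_mem (hhm _) hg) (fun i => by
      rw [Equiv.Perm.mul_apply, hm_apply, h i, smul_smul]
      have : (((Units.mk0 s hs)⁻¹ : Kˣ) : K) * s = 1 := by
        rw [Units.val_inv_eq_inv_val, Units.val_mk0, inv_mul_cancel₀ hs]
      rw [this, one_smul]) w hw
    rw [Equiv.Perm.mul_apply, hm_apply] at h1
    have h3 : g w = ((Units.mk0 s hs : Kˣ) : K) • ((((Units.mk0 s hs)⁻¹ : Kˣ) : K) • g w) := by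
      rw [smul_smul, Units.mul_inv, one_smul]
    rw [h3, h1]
  have ne : ∀ (g : Equiv.Perm V) (σ : K ≃+* K), Sml g σ → ∀ x : V, x ≠ 0 → ∀ s : K, g x = s • x → s ≠ 0 := by
    rintro g σ hg x hx s h rfl
    apply hx
    apply g.injective
    have h0 : g 0 = 0 := by
      have := hg.1 0 0
      rw [add_zero] at this
      exact left_eq_add.1 this
    rw [h, h0, zero_smul]
  by_cases hli : LinearIndependent K c
  · have hne : ∀ i, c i ≠ 0 := hli.ne_zero
    have h3 : ∀ s : Fin 3 → K, s 0 • c 0 + s 1 • c 1 + s 2 • c 2 = 0 → ∀ i, s i = 0 := by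
      intro s hs
      refine Fintype.linearIndependent_iff.1 hli s ?_
      rw [Fin.sum_univ_three]
      exact hs
    have hsum : c 0 + c 1 + c 2 ≠ 0 := by
      intro h
      have := h3 (fun _ => 1) (by simpa using h) 0
      exact one_ne_zero this
    refine ⟨![c 0, c 1, c 2, c 0 + c 1 + c 2], fun j => ?_, fun g hg h => ?_⟩
    · fin_cases j
      exacts [⟨hc 0, hne 0⟩, ⟨hc 1, hne 1⟩, ⟨hc 2, hne 2⟩, ⟨A.add_mem (A.add_mem (hc 0) (hc 1)) (hc 2), hsum⟩]
    · obtain ⟨s0, e0⟩ := h 0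
      obtain ⟨s1, e1⟩ := h 1
      obtain ⟨s2, e2⟩ := h 2
      obtain ⟨s3, e3⟩ := h 3
      obtain ⟨σ, hσ⟩ := hG g hg
      change g (c 0) = s0 • c 0 at e0
      change g (c 1) = s1 • c 1 at e1
      change g (c 2) = s2 • c 2 at e2
      change g (c 0 + c 1 + c 2) = s3 • (c 0 + c 1 + c 2) at e3
      have e4 := h3 ![s0 - s3, s1 - s3, s2 - s3] (by
        show (s0 - s3) • c 0 + (s1 - s3) • c 1 + (s2 - s3) • c 2 = 0
        rw [hσ.1, hσ.1, e0, e1, e2, smul_add, smul_add] at e3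
        rw [sub_smul, sub_smul, sub_smul]
        have e5 : s0 • c 0 - s3 • c 0 + (s1 • c 1 - s3 • c 1) + (s2 • c 2 - s3 • c 2) =
          (s0 • c 0 + s1 • c 1 + s2 • c 2) - (s3 • c 0 + s3 • c 1 + s3 • c 2) := by abel
        rw [e5, e3, sub_self])
      have f0 : s0 = s3 := sub_eq_zero.1 (e4 0)
      have f1 : s1 = s3 := sub_eq_zero.1 (e4 1)
      have f2 : s2 = s3 := sub_eq_zero.1 (e4 2)
      subst f0
      rw [f1] at e1
      rw [f2] at e2
      refine fin g hg s0 (ne g σ hσ _ (hne 0) _ e0) fun i => ?_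
      fin_cases i
      exacts [e0, e1, e2]
  · obtain ⟨p₁, p₂, hp₁, hp₂, hind, hspan⟩ := exists_plane h2 hc hli
    obtain ⟨γ, hγ0, hγ⟩ := exists_gen K
    have n1 : p₁ ≠ 0 := by
      intro h
      have := (hind 1 0 (by rw [h, smul_zero, zero_smul, add_zero])).1
      exact one_ne_zero this
    have n2 : p₂ ≠ 0 := by
      intro h
      have := (hind 0 1 (by rw [h, smul_zero, zero_smul, add_zero])).2
      exact one_ne_zero this
    have n3 : ∀ s : K, p₁ + s • p₂ ≠ 0 := by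
      intro s h
      have := (hind 1 s (by rw [one_smul]; exact h)).1
      exact one_ne_zero this
    refine ⟨![p₁, p₂, p₁ + (1 : K) • p₂, p₁ + γ • p₂], fun j => ?_, fun g hg h => ?_⟩
    · fin_cases j
      exacts [⟨hp₁, n1⟩, ⟨hp₂, n2⟩, ⟨A.add_mem hp₁ (A.smul_mem _ hp₂), n3 1⟩, ⟨A.add_mem hp₁ (A.smul_mem _ hp₂), n3 γ⟩]
    · obtain ⟨s0, e0⟩ := h 0
      obtain ⟨s1, e1⟩ := h 1
      obtain ⟨s2, e2⟩ := h 2
      obtain ⟨s3, e3⟩ := h 3
      obtain ⟨σ, hσ⟩ := hG g hg
      change g p₁ = s0 • p₁ at e0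
      change g p₂ = s1 • p₂ at e1
      change g (p₁ + (1 : K) • p₂) = s2 • (p₁ + (1 : K) • p₂) at e2
      change g (p₁ + γ • p₂) = s3 • (p₁ + γ • p₂) at e3
      have key : ∀ s a : K, g (p₁ + a • p₂) = s • (p₁ + a • p₂) → s0 = s ∧ σ a * s1 = s * a := by
        intro s a h
        rw [hσ.1, hσ.2, e0, e1, smul_add, smul_smul, smul_smul] at h
        have := hind (s0 - s) (σ a * s1 - s * a) (by
          rw [sub_smul, sub_smul]
          have e5 : s0 • p₁ - s • p₁ + ((σ a * s1) • p₂ - (s * a) • p₂) =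
            (s0 • p₁ + (σ a * s1) • p₂) - (s • p₁ + (s * a) • p₂) := by abel
          rw [e5, h, sub_self])
        exact ⟨sub_eq_zero.1 this.1, sub_eq_zero.1 this.2⟩
      obtain ⟨k1, k2⟩ := key _ _ e2
      obtain ⟨k3, k4⟩ := key _ _ e3
      rw [map_one, one_mul, mul_one, ← k1] at k2
      rw [← k3, k2] at k4
      have hs0 : s0 ≠ 0 := ne g σ hσ _ n1 _ e0
      have k5 : σ γ = γ := by
        rw [mul_comm] at k4
        exact mul_left_cancel₀ hs0 k4
      have k6 := hγ σ k5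
      refine fin g hg s0 hs0 fun i => ?_
      obtain ⟨a, a', ha⟩ := Submodule.mem_span_pair.1 (hspan i)
      rw [← ha, hσ.1, hσ.2, hσ.2, e0, e1, k2, k6, k6, smul_add, smul_smul, smul_smul, smul_smul, smul_smul,
        mul_comm s0 a, mul_comm s0 a']

/-! ### The theorem -/

theorem exists_conj [Finite V] [Module.Finite K V] {b : Cl K V} (hb : b.IsU) {G : Subgroup (Equiv.Perm V)}
    (hG : G ≤ Sim b) {I A : Submodule K V} (hI : b.ND I) (hA : b.ND A) (hIA : ∀ x ∈ I, ∀ y ∈ A, b.B x y = 0)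
    (hGI : G ≤ StabS I) (hGA : G ≤ StabS A) (u v : Fin 4 → V) (hu : ∀ j, u j ∈ I ∧ b.B (u j) (u j) = 0 ∧ u j ≠ 0)
    (hv : ∀ j, v j ∈ A ∧ v j ≠ 0) :
    ∃ x : Fin 4 → (V ≃ₗ[K] V), (∀ i, LinearMap.det ((x i : V ≃ₗ[K] V) : V →ₗ[K] V) = 1) ∧
      (∀ i v w, b.B (x i v) (x i w) = b.B v w) ∧
      ∀ g ∈ G, (∀ i, ((x i).toEquiv : Equiv.Perm V) * g * ((x i).toEquiv : Equiv.Perm V)⁻¹ ∈ G) →
        ∀ σ μ, IsSim b g σ μ → ∀ j, ∃ c c' : K, g (u j) = c • u j ∧ g (v j) = c' • v j ∧ c' * b.τ c = μ := by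
  choose E ρ h1 h2 h3 using fun j => exists_eich hb (hu j).2.1 (hIA _ (hu j).1 _ (hv j).1)
  refine ⟨E, h1, h2, fun g hg hx σ μ hs j => ?_⟩
  obtain ⟨y₁, hy₁, e₁⟩ := ND.exists_one hI (hu j).1 (hu j).2.2
  obtain ⟨y₂, hy₂, e₂⟩ := ND.exists_one hA (hv j).1 (hv j).2
  obtain ⟨σ', μ', hs'⟩ := hG (hx j)
  exact eich_fix hI hIA (h3 j) (hu j).1 (hv j).1 (hu j).2.1 (hv j).2 hy₁ hy₂ e₁ e₂ hs hs' (hGI hg) (hGA hg)
    (hGI (hx j)) (hGA (hx j)) fun x => by simp

theorem exists_unit_ne [Finite K] {b : Cl K V} (hb : b.IsU) : ∃ a : Kˣ, (a : K) ≠ 1 := by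
  obtain ⟨a, ha⟩ := hb.1
  have h0 : a ≠ 0 := by rintro rfl; exact ha (map_zero _)
  refine ⟨Units.mk0 a h0, ?_⟩
  rintro h
  rw [Units.val_mk0] at h
  rw [h, map_one] at ha
  exact ha rfl

/-- one of the base vectors is not zero -/
theorem exists_base_ne [Finite K] {b : Cl K V} (hb : b.IsU) {G : Subgroup (Equiv.Perm V)}
    (hhm : ∀ a : Kˣ, hm K V a ∈ G) {I : Submodule K V} (hI : I ≠ ⊥) {c : Fin 3 → V}
    (hbase : ∀ g ∈ G, (∀ i, g (c i) = c i) → ∀ w ∈ I, g w = w) : ∃ i, c i ≠ 0 := by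
  by_contra hcon
  push Not at hcon
  obtain ⟨w, hw, hw0⟩ := (Submodule.ne_bot_iff _).1 hI
  obtain ⟨a, ha⟩ := exists_unit_ne hb
  have h1 := hbase (hm K V a) (hhm a) (fun i => by rw [hcon i, hm_apply, smul_zero]) w hw
  rw [hm_apply] at h1
  apply ha
  have h2 : ((a : K) - 1) • w = 0 := by rw [sub_smul, one_smul, h1, sub_self]
  exact sub_eq_zero.1 ((smul_eq_zero.1 h2).resolve_right hw0)

/-- Step 1: both blocks have dimension at least two. -/
theorem step_two [Finite K] [Finite V] [Module.Finite K V] {b : Cl K V} (hb : b.IsU) {G : Subgroup (Equiv.Perm V)}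
    (hG : G ≤ Sim b) (hhm : ∀ a : Kˣ, hm K V a ∈ G) {I A : Submodule K V} (hI : b.ND I) (hA : b.ND A)
    (hIA : ∀ x ∈ I, ∀ y ∈ A, b.B x y = 0) (hIA' : I ⊔ A = ⊤) (hGI : G ≤ StabS I) (hGA : G ≤ StabS A)
    (hI2 : 2 ≤ Module.finrank K I) (hA2 : 2 ≤ Module.finrank K A) {c d : Fin 3 → V} (hc : ∀ i, c i ∈ I)
    (hd : ∀ i, d i ∈ A) (hcb : ∀ g ∈ G, (∀ i, g (c i) = c i) → ∀ w ∈ I, g w = w)
    (hdb : ∀ g ∈ G, (∀ i, g (d i) = d i) → ∀ w ∈ A, g w = w) : FiveBV b G := by
  have hI0 : I ≠ ⊥ := by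
    rintro rfl
    rw [finrank_bot] at hI2
    omega
  obtain ⟨i₀, hi₀⟩ := exists_base_ne hb hhm hI0 hcb
  obtain ⟨u, hu, hus, -⟩ := exists_four hb hI hI2 c hc hi₀ one_ne_zero
  obtain ⟨v, hv, hvr⟩ := exists_rigid (G := G) (fun g hg => by
    obtain ⟨σ, μ, hs⟩ := hG hg
    exact ⟨σ, hs.add, hs.smul⟩) hhm hA2 hd hdb
  obtain ⟨x, hx1, hx2, hx3⟩ := exists_conj hb hG hI hA hIA hGI hGA u v hu hv
  refine ⟨x, hx1, hx2, fun g hg hgx => ?_⟩
  obtain ⟨σ, μ, hs⟩ := hG hg
  have h1 := hx3 g hg hgx σ μ hs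
  obtain ⟨s, hsA⟩ := hvr g hg fun j => by
    obtain ⟨_, c', _, h2, _⟩ := h1 j
    exact ⟨c', h2⟩
  have hs0 : (s : K) ≠ 0 := s.ne_zero
  -- `σ = 1`
  obtain ⟨hv0, hv0'⟩ := hv 0
  have hσ : ∀ a, σ a = a := by
    intro a
    have h2 := hs.smul a (v 0)
    rw [hsA _ (A.smul_mem a hv0), hsA _ hv0, smul_smul, smul_smul] at h2
    have h3 : ((s : K) * a - σ a * s) • v 0 = 0 := by rw [sub_smul, h2, sub_self]
    have h4 := sub_eq_zero.1 ((smul_eq_zero.1 h3).resolve_right hv0')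
    rw [mul_comm] at h4
    exact (mul_right_cancel₀ hs0 h4).symm
  have hμ : μ = s * b.τ s := by
    obtain ⟨y, hy, hy1⟩ := ND.exists_one hA hv0 hv0'
    have h2 := hs.form y (v 0)
    rw [hsA _ hy, hsA _ hv0, b.smul_left, b.smul_right, hy1, map_one, mul_one, mul_one] at h2
    exact h2.symm
  have hu' : ∀ j, g (u j) = (s : K) • u j := by
    intro j
    obtain ⟨c, c', h2, h3, h4⟩ := h1 j
    rw [hsA _ (hv j).1] at h3
    have h5 : ((s : K) - c') • v j = 0 := by rw [sub_smul, h3, sub_self]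
    have h6 := sub_eq_zero.1 ((smul_eq_zero.1 h5).resolve_right (hv j).2)
    rw [← h6, hμ] at h4
    have h7 := b.τ.injective (mul_left_cancel₀ hs0 h4)
    rw [h2, h7]
  have hspan : ∀ w ∈ Submodule.span K (Set.range u), g w = (s : K) • w := by
    intro w hw
    induction hw using Submodule.span_induction with
    | mem x hx => obtain ⟨j, rfl⟩ := hx; exact hu' j
    | zero => rw [hs.map_zero, smul_zero]
    | add x y _ _ hx hy => rw [hs.add, hx, hy, smul_add]
    | smul a x _ hx => rw [hs.smul, hx, hσ, smul_comm]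
  have hgI : ∀ w ∈ I, g w = (s : K) • w := by
    intro w hw
    have h2 := hcb (hm K V s⁻¹ * g) (mul_mem (hhm _) hg) (fun i => by
      rw [Equiv.Perm.mul_apply, hm_apply, hspan _ (hus i), smul_smul, Units.inv_mul, one_smul]) w hw
    rw [Equiv.Perm.mul_apply, hm_apply] at h2
    have h3 : g w = (s : K) • (((s⁻¹ : Kˣ) : K) • g w) := by
      rw [smul_smul, Units.mul_inv, one_smul]
    rw [h3, h2]
  refine ⟨s, ?_⟩
  ext w
  have hw : w ∈ I ⊔ A := by rw [hIA']; trivial
  obtain ⟨y, hy, z, hz, rfl⟩ := Submodule.mem_sup.1 hw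
  rw [hs.add, hgI y hy, hsA z hz, hm_apply, smul_add]

/-- Step 2: one block is a line. -/
theorem step_one [Finite K] [Finite V] [Module.Finite K V] {b : Cl K V} (hb : b.IsU) {G : Subgroup (Equiv.Perm V)}
    (hG : G ≤ Sim b) (hhm : ∀ a : Kˣ, hm K V a ∈ G) {I A : Submodule K V} (hI : b.ND I) (hA : b.ND A)
    (hIA : ∀ x ∈ I, ∀ y ∈ A, b.B x y = 0) (hIA' : I ⊔ A = ⊤) (hGI : G ≤ StabS I) (hGA : G ≤ StabS A)
    (hI2 : 2 ≤ Module.finrank K I) (hA1 : Module.finrank K A = 1) {c : Fin 3 → V} (hc : ∀ i, c i ∈ I)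
    (hcb : ∀ g ∈ G, (∀ i, g (c i) = c i) → ∀ w ∈ I, g w = w) : FiveBV b G := by
  have hI0 : I ≠ ⊥ := by
    rintro rfl
    rw [finrank_bot] at hI2
    omega
  have hA0 : A ≠ ⊥ := by
    rintro rfl
    rw [finrank_bot] at hA1
    omega
  obtain ⟨w₀, hw₀, hw₁⟩ := (hfU hb).exists_val hA0 hA (c := 1) one_ne_zero (map_one _)
  have hw₀0 : w₀ ≠ 0 := by
    rintro rfl
    rw [zero_left] at hw₁
    exact zero_ne_one hw₁
  have hAw : ∀ a ∈ A, ∃ r : K, a = r • w₀ := by
    intro a ha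
    obtain ⟨r, hr⟩ := (finrank_eq_one_iff_of_nonzero' (⟨w₀, hw₀⟩ : A) (fun h => hw₀0 (congrArg Subtype.val h))).1 hA1
      ⟨a, ha⟩
    exact ⟨r, (congrArg Subtype.val hr).symm⟩
  obtain ⟨γ, hγ0, hγ⟩ := exists_gen K
  obtain ⟨i₀, hi₀⟩ := exists_base_ne hb hhm hI0 hcb
  obtain ⟨u, hu, hus, j, j', hjj⟩ := exists_four hb hI hI2 c hc hi₀ hγ0
  obtain ⟨x, hx1, hx2, hx3⟩ := exists_conj hb hG hI hA hIA hGI hGA u (fun _ => w₀) hu (fun _ => ⟨hw₀, hw₀0⟩)
  refine ⟨x, hx1, hx2, fun g hg hgx => ?_⟩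
  obtain ⟨σ, μ, hs⟩ := hG hg
  have h1 := hx3 g hg hgx σ μ hs
  obtain ⟨s, hsw⟩ : ∃ s : K, g w₀ = s • w₀ := by
    obtain ⟨_, s, _, h2, _⟩ := h1 0
    exact ⟨s, h2⟩
  have hs0 : s ≠ 0 := by
    rintro rfl
    rw [zero_smul] at hsw
    apply hw₀0
    apply g.injective
    rw [hsw, hs.map_zero]
  have hμ : μ = s * b.τ s := by
    have h2 := hs.form w₀ w₀
    rw [hsw, b.smul_left, b.smul_right, hw₁, map_one, mul_one, mul_one] at h2
    exact h2.symm
  have hu' : ∀ j, g (u j) = s • u j := by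
    intro j
    obtain ⟨c, c', h2, h3, h4⟩ := h1 j
    rw [hsw] at h3
    have h5 : (s - c') • w₀ = 0 := by rw [sub_smul, h3, sub_self]
    have h6 := sub_eq_zero.1 ((smul_eq_zero.1 h5).resolve_right hw₀0)
    rw [← h6, hμ] at h4
    have h7 := b.τ.injective (mul_left_cancel₀ hs0 h4)
    rw [h2, h7]
  have hσ : ∀ a, σ a = a := by
    refine hγ σ ?_
    have h2 := hs.form (u j) (u j')
    rw [hu', hu', b.smul_left, b.smul_right, hjj, hμ, mul_assoc s] at h2
    have h3 := mul_left_cancel₀ hs0 h2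
    exact (mul_left_cancel₀ ((map_ne_zero b.τ).2 hs0) h3).symm
  have hspan : ∀ w ∈ Submodule.span K (Set.range u), g w = s • w := by
    intro w hw
    induction hw using Submodule.span_induction with
    | mem x hx => obtain ⟨j, rfl⟩ := hx; exact hu' j
    | zero => rw [hs.map_zero, smul_zero]
    | add x y _ _ hx hy => rw [hs.add, hx, hy, smul_add]
    | smul a x _ hx => rw [hs.smul, hx, hσ, smul_comm]
  obtain ⟨t, rfl⟩ : ∃ t : Kˣ, (t : K) = s := ⟨Units.mk0 s hs0, rfl⟩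
  have hgI : ∀ w ∈ I, g w = (t : K) • w := by
    intro w hw
    have h2 := hcb (hm K V t⁻¹ * g) (mul_mem (hhm _) hg) (fun i => by
      rw [Equiv.Perm.mul_apply, hm_apply, hspan _ (hus i), smul_smul, Units.inv_mul, one_smul]) w hw
    rw [Equiv.Perm.mul_apply, hm_apply] at h2
    have h3 : g w = (t : K) • (((t⁻¹ : Kˣ) : K) • g w) := by
      rw [smul_smul, Units.mul_inv, one_smul]
    rw [h3, h2]
  refine ⟨t, ?_⟩
  ext w
  have hw : w ∈ I ⊔ A := by rw [hIA']; trivial
  obtain ⟨y, hy, z, hz, rfl⟩ := Submodule.mem_sup.1 hw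
  obtain ⟨r, rfl⟩ := hAw z hz
  rw [hs.add, hgI y hy, hs.smul, hsw, hσ, hm_apply, smul_add, smul_comm r]

/-- **Class C1 for unitary groups.** -/
theorem fiveBV_C1U [Finite K] [Module.Finite K V] {b : Cl K V} (hb : b.IsU) (hn : 3 ≤ Module.finrank K V)
    {G : Subgroup (Equiv.Perm V)} (hG : G ≤ Sim b) (hsol : Group.IsSolvable G) (hhm : ∀ a : Kˣ, hm K V a ∈ G)
    (hTI : ∀ U : Submodule K V, b.TI U → G ≤ StabS U → U = ⊥) {W : Submodule K V} (hW0 : W ≠ ⊥) (hW1 : W ≠ ⊤)
    (hND : b.ND W) (hGW : G ≤ StabS W) : FiveBV b G := by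
  have : Finite V := Module.finite_of_finite K
  have hGo : G ≤ StabS (orth b W) := fun g hg => stab_orth (hG hg) (hGW hg)
  have hNDo := orth_ND hND
  have hsup := sup_orth hND
  have hWo : ∀ x ∈ W, ∀ y ∈ orth b W, b.B x y = 0 := fun x hx y hy => refl0 b (hy x hx)
  have hoW : ∀ x ∈ orth b W, ∀ y ∈ W, b.B x y = 0 := fun x hx y hy => hx y hy
  have hinf : W ⊓ orth b W = ⊥ := by
    rw [eq_bot_iff]
    rintro x ⟨hx1, hx2⟩
    exact hND x hx1 hx2
  have hdim : Module.finrank K W + Module.finrank K (orth b W) = Module.finrank K V := by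
    have h1 := Submodule.finrank_sup_add_finrank_inf_eq W (orth b W)
    rw [hsup, hinf, finrank_bot, add_zero, finrank_top] at h1
    exact h1.symm
  have hW0' : Module.finrank K W ≠ 0 := fun h => hW0 (Submodule.finrank_eq_zero.1 h)
  have hW1' : Module.finrank K (orth b W) ≠ 0 := by
    intro h
    apply hW1
    have h2 : orth b W = ⊥ := Submodule.finrank_eq_zero.1 h
    rw [h2, sup_bot_eq] at hsup
    exact hsup
  obtain ⟨c, hc, hcb⟩ := base3 hG hsol hhm hGW fun U _ => hTI U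
  obtain ⟨d, hd, hdb⟩ := base3 hG hsol hhm hGo fun U _ => hTI U
  by_cases h1 : Module.finrank K W = 1
  · exact step_one hb hG hhm hNDo hND hoW (by rw [sup_comm]; exact hsup) hGo hGW (by omega) h1 hd hdb
  · by_cases h2 : Module.finrank K (orth b W) = 1
    · exact step_one hb hG hhm hND hNDo hWo hsup hGW hGo (by omega) h2 hc hcb
    · exact step_two hb hG hhm hND hNDo hWo hsup hGW hGo (by omega) (by omega) hc hd hcb hdb

end basic

end Cfsg.Agent.H499.FC
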