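import Cfsg.Agent.H499.FC.EichC1
import Cfsg.Agent.H57.FC.Prim

/-!
# S5764, unitary groups, class C2 with blocks of dimension `≥ 2` (helper499)

`blk_fix` : Eichler transformations and orthogonal decompositions.
-/

set_option autoImplicit false

namespace Cfsg.Agent.H499.FC

open Subgroup Cfsg Cfsg.Agent.H198.FC Cfsg.Agent.H412.FC
open Cfsg.Agent.H57.FC (Blk Pm Sys typ typ_congr quad_type Ind pr)

universe u v w

section blocks

variable {K : Type u} [Field K] {V : Type v} [AddCommGroup V] [Module K V] {ι : Type w}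

theorem blk_exists_one {b : Cl K V} {U : ι → Submodule K V} (h : Blk b U) {i : ι} {v : V}
    (hv : v ∈ U i) (hv0 : v ≠ 0) : ∃ u ∈ U i, b.B u v = 1 := by
  by_contra hcon
  push Not at hcon
  apply hv0
  refine h.nondeg hv fun u hu => ?_
  by_contra hne
  have h1 : b.B u v ≠ 0 := fun h1 => hne (refl0 b h1)
  apply hcon ((b.B u v)⁻¹ • u) ((U i).smul_mem _ hu)
  rw [b.smul_left, inv_mul_cancel₀ h1]

/-- a vector of `U i` orthogonal to `U i` is zero -/
theorem blk_zero {b : Cl K V} {U : ι → Submodule K V} (h : Blk b U) {i : ι} {v : V} (hv : v ∈ U i)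
    (h0 : ∀ y ∈ U i, b.B y v = 0) : v = 0 := h.nondeg hv fun y hy => refl0 b (h0 y hy)

theorem B_sum_right (b : Cl K V) (v : V) (s : Finset ι) (f : ι → V) :
    b.B v (∑ i ∈ s, f i) = ∑ i ∈ s, b.B v (f i) := by
  classical
  induction s using Finset.induction_on with
  | empty => simpa using zero_right b v
  | insert a s ha ih => rw [Finset.sum_insert ha, Finset.sum_insert ha, b.add_right, ih]

/-- **Block lemma for Eichler transformations.**  `w i₀` is isotropic, `E` the Eichler transformation of `w i₀` and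
`∑ l ≠ i₀, w l`. -/
theorem blk_fix [Fintype ι] [Nontrivial ι] [DecidableEq ι] {b : Cl K V} {U : ι → Submodule K V} (h : Blk b U)
    {g g' : Equiv.Perm V} {σ σ' : K ≃+* K} {μ μ' : K} (hg : IsSim b g σ μ) (hg' : IsSim b g' σ' μ')
    {π π' : Equiv.Perm ι} (hπ : Pm U g π) (hπ' : Pm U g' π') {w : ι → V} (hw : ∀ i, w i ∈ U i)
    (hw0 : ∀ i, w i ≠ 0) {i₀ : ι} (hiso : b.B (w i₀) (w i₀) = 0) {ρ : K} {E : V → V}
    (hE : ∀ x, E x = x + b.B x (w i₀) • (∑ l ∈ Finset.univ.erase i₀, w l) +
      (ρ * b.B x (w i₀) - b.B x (∑ l ∈ Finset.univ.erase i₀, w l)) • w i₀)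
    (hc : ∀ x, g' (E x) = E (g x)) :
    ∃ c : ι → K, (∀ i, g (w i) = c i • w (π i)) ∧ ((∃ n, n ≠ i₀ ∧ n ≠ π i₀) → π i₀ = i₀) ∧
      (π i₀ = i₀ → ∀ l, l ≠ i₀ → b.τ (c l) * c i₀ = μ) := by
  set W : V := ∑ l ∈ Finset.univ.erase i₀, w l with hW
  -- pairing with `W`
  have hBW : ∀ {i : ι} {x : V}, x ∈ U i → i ≠ i₀ → b.B x W = b.B x (w i) := by
    intro i x hx hi
    rw [hW, B_sum_right]
    refine Finset.sum_eq_single i (fun j _ hj => h.ort i j (Ne.symm hj) x hx (w j) (hw j)) fun hi' => ?_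
    exact absurd (Finset.mem_erase.2 ⟨hi, Finset.mem_univ i⟩) hi'
  have hBW0 : ∀ {x : V}, x ∈ U i₀ → b.B x W = 0 := by
    intro x hx
    rw [hW, B_sum_right]
    refine Finset.sum_eq_zero fun j hj => h.ort i₀ j (Ne.symm (Finset.ne_of_mem_erase hj)) x hx (w j) (hw j)
  have hE1 : ∀ {l : ι} {x : V}, l ≠ i₀ → x ∈ U l → E x = x - b.B x (w l) • w i₀ := by
    intro l x hl hx
    rw [hE, h.ort l i₀ hl x hx _ (hw i₀), hBW hx hl, zero_smul, add_zero, mul_zero, zero_sub, neg_smul,
      sub_eq_add_neg]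
  have hE0 : ∀ {x : V}, x ∈ U i₀ → E x = x + b.B x (w i₀) • W + (ρ * b.B x (w i₀)) • w i₀ := by
    intro x hx
    rw [hE, hBW0 hx, sub_zero]
  -- vectors orthogonal to `w l`
  have h1 : ∀ l x, x ∈ U l → b.B x (w l) = 0 → b.B (g x) (w (π l)) = 0 ∧ g' x = g x := by
    intro l x hx hx0
    have hgx : g x ∈ U (π l) := (hπ l x).2 hx
    have hgx' : g' x ∈ U (π' l) := (hπ' l x).2 hx
    have hEx : E x = x := by
      by_cases hl : l = i₀
      · subst hl
        rw [hE0 hx, hx0, mul_zero, zero_smul, zero_smul, add_zero, add_zero]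
      · rw [hE1 hl hx, hx0, zero_smul, sub_zero]
    have e := hc x
    rw [hEx] at e
    by_cases hp : π l = i₀
    · rw [hp] at hgx ⊢
      rw [hE0 hgx] at e
      have h0 : b.B (g x) (w i₀) = 0 := by
        obtain ⟨m, hm⟩ := exists_ne i₀
        by_cases hm' : π' l = m
        · have e2 := congrArg (fun y => b.B y (w i₀)) e
          simp only [b.add_left, b.smul_left] at e2
          rw [h.ort (π' l) i₀ (by rw [hm']; exact hm) _ hgx' _ (hw i₀), refl0 b (hBW0 (hw i₀)), hiso, mul_zero,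
            mul_zero, add_zero, add_zero] at e2
          exact e2.symm
        · obtain ⟨y, hy, hy1⟩ := blk_exists_one h (hw m) (hw0 m)
          have e2 := congrArg (fun z => b.B y z) e
          simp only [b.add_right, b.smul_right] at e2
          rw [h.ort m (π' l) (Ne.symm hm') y hy _ hgx', h.ort m i₀ hm y hy _ hgx, hBW hy hm, hy1,
            h.ort m i₀ hm y hy _ (hw i₀), mul_zero, mul_one, add_zero, zero_add] at e2
          exact (map_eq_zero b.τ).1 e2.symm
      refine ⟨h0, ?_⟩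
      rw [e, h0, mul_zero, zero_smul, zero_smul, add_zero, add_zero]
    · rw [hE1 hp hgx] at e
      have h0 : b.B (g x) (w (π l)) = 0 := by
        by_cases hp' : π' l = π l
        · obtain ⟨y, hy, hy1⟩ := blk_exists_one h (hw i₀) (hw0 i₀)
          have e2 := congrArg (fun z => b.B y z) e
          simp only [sub_right, b.smul_right] at e2
          rw [h.ort i₀ (π' l) (by rw [hp']; exact Ne.symm hp) y hy _ hgx', h.ort i₀ (π l) (Ne.symm hp) y hy _ hgx, hy1,
            mul_one, zero_sub] at e2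
          exact (map_eq_zero b.τ).1 (neg_eq_zero.1 e2.symm)
        · have e3 : g x = 0 := by
            refine blk_zero h hgx fun y hy => ?_
            have e2 := congrArg (fun z => b.B y z) e
            simp only [sub_right, b.smul_right] at e2
            rw [h.ort (π l) (π' l) (Ne.symm hp') y hy _ hgx', h.ort (π l) i₀ hp y hy _ (hw i₀), mul_zero,
              sub_zero] at e2
            exact e2.symm
          rw [e3, zero_left]
      refine ⟨h0, ?_⟩
      rw [e, h0, zero_smul, sub_zero]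
  -- `g (w l)`
  choose v hv hv1 using fun i => blk_exists_one h (hw i) (hw0 i)
  have h3 : ∀ i, w (π i) = b.τ (b.B (g (v i)) (w (π i)) * μ⁻¹) • g (w i) := by
    intro i
    rw [← sub_eq_zero]
    have hgw : g (w i) ∈ U (π i) := (hπ i (w i)).2 (hw i)
    refine blk_zero h (Submodule.sub_mem _ (hw _) (Submodule.smul_mem _ _ hgw)) fun u hu => ?_
    obtain ⟨t, rfl⟩ := g.surjective u
    have ht : t ∈ U i := (hπ i t).1 hu
    have h4 := (h1 i (t - b.B t (w i) • v i) ((U i).sub_mem ht ((U i).smul_mem _ (hv i))) (by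
      rw [sub_left, b.smul_left, hv1, mul_one, sub_self])).1
    rw [hg.map_sub, hg.smul, sub_left, b.smul_left, sub_eq_zero] at h4
    rw [sub_right, b.smul_right, b.invol, hg.form, h4]
    have := hg.ne
    field_simp
    ring
  have hne : ∀ i, b.τ (b.B (g (v i)) (w (π i)) * μ⁻¹) ≠ 0 := by
    intro i h0
    apply hw0 (π i)
    rw [h3 i, h0, zero_smul]
  have h4 : ∀ i, g (w i) = (b.τ (b.B (g (v i)) (w (π i)) * μ⁻¹))⁻¹ • w (π i) := by
    intro i
    have h5 : (b.τ (b.B (g (v i)) (w (π i)) * μ⁻¹))⁻¹ • w (π i) =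
        (b.τ (b.B (g (v i)) (w (π i)) * μ⁻¹))⁻¹ • (b.τ (b.B (g (v i)) (w (π i)) * μ⁻¹) • g (w i)) := by
      rw [← h3 i]
    rw [smul_smul, inv_mul_cancel₀ (hne i), one_smul] at h5
    exact h5.symm
  generalize hcdef : (fun i => (b.τ (b.B (g (v i)) (w (π i)) * μ⁻¹))⁻¹) = c
  have hc4 : ∀ i, g (w i) = c i • w (π i) := by
    intro i
    rw [h4 i, ← hcdef]
  refine ⟨c, hc4, ?_, ?_⟩
  · -- the special block is fixed
    rintro ⟨n, hn, hn'⟩
    by_contra hm
    have hgv : g (v i₀) ∈ U (π i₀) := (hπ i₀ _).2 (hv i₀)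
    have e := hc (v i₀)
    rw [hE0 (hv i₀), hE1 hm hgv, hv1, one_smul, mul_one, hg'.add, hg'.add, hg'.smul, hW, hg'.map_sum] at e
    have hgu : g' (w i₀) = g (w i₀) := (h1 i₀ _ (hw i₀) hiso).2
    -- `π' i₀ = π i₀`
    have hpp : π' i₀ = π i₀ := by
      by_contra hcon
      have a1 : g (w i₀) ∈ U (π i₀) := (hπ i₀ _).2 (hw i₀)
      have a2 : g (w i₀) ∈ U (π' i₀) := by rw [← hgu]; exact (hπ' i₀ _).2 (hw i₀)
      have a3 : g (w i₀) = 0 := blk_zero h a1 fun y hy => h.ort _ _ (Ne.symm hcon) y hy _ a2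
      apply hw0 i₀
      apply g.injective
      rw [a3, hg.map_zero]
    obtain ⟨l, rfl⟩ := π'.surjective n
    have hl : l ≠ i₀ := by
      rintro rfl
      exact hn' hpp
    have hgw' : g' (w l) ∈ U (π' l) := (hπ' l _).2 (hw l)
    have hgw0 : g' (w l) ≠ 0 := by
      intro h0
      apply hw0 l
      apply g'.injective
      rw [h0, hg'.map_zero]
    obtain ⟨y, hy, hy1⟩ := blk_exists_one h hgw' hgw0
    have e2 := congrArg (fun z => b.B y z) e
    simp only [b.add_right, b.smul_right, sub_right, B_sum_right] at e2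
    rw [Finset.sum_eq_single l] at e2
    · rw [hy1, h.ort (π' l) (π' i₀) (fun hh => hl (π'.injective hh)) y hy _ ((hπ' i₀ _).2 (hv i₀)),
        h.ort (π' l) (π' i₀) (fun hh => hl (π'.injective hh)) y hy _ ((hπ' i₀ _).2 (hw i₀)),
        h.ort (π' l) (π i₀) hn' y hy _ hgv, h.ort (π' l) i₀ hn y hy _ (hw i₀), mul_zero, mul_zero, zero_add, add_zero,
        sub_zero] at e2
      exact one_ne_zero e2
    · intro j _ hj
      exact h.ort (π' l) (π' j) (fun hh => hj (π'.injective hh).symm) y hy _ ((hπ' j _).2 (hw j))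
    · intro hl'
      exact absurd (Finset.mem_erase.2 ⟨hl, Finset.mem_univ l⟩) hl'
  · -- the relation
    intro hp l hl
    have hpl : π l ≠ i₀ := fun hh => hl (π.injective (hh.trans hp.symm))
    have hgu : g' (w i₀) = g (w i₀) := (h1 i₀ _ (hw i₀) hiso).2
    have hgu' : g (w i₀) = c i₀ • w i₀ := by rw [hc4, hp]
    have hgv : g (v l) ∈ U (π l) := (hπ l _).2 (hv l)
    have hgv' : g' (v l) ∈ U (π' l) := (hπ' l _).2 (hv l)
    have e := hc (v l)
    rw [hE1 hl (hv l), hE1 hpl hgv, hv1, one_smul, hg'.map_sub, hgu, hgu'] at e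
    have hpp : π' l = π l := by
      by_contra hcon
      have a3 : g (v l) = 0 := by
        refine blk_zero h hgv fun y hy => ?_
        have e2 := congrArg (fun z => b.B y z) e
        simp only [sub_right, b.smul_right] at e2
        rw [h.ort _ _ (Ne.symm hcon) y hy _ hgv', h.ort (π l) i₀ hpl y hy _ (hw i₀), mul_zero, mul_zero, sub_zero,
          sub_zero] at e2
        exact e2.symm
      have a4 : v l = 0 := by
        apply g.injective
        rw [a3, hg.map_zero]
      have a5 := hv1 l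
      rw [a4, zero_left] at a5
      exact zero_ne_one a5
    obtain ⟨y, hy, hy1⟩ := blk_exists_one h (hw i₀) (hw0 i₀)
    have e2 := congrArg (fun z => b.B y z) e
    simp only [sub_right, b.smul_right] at e2
    rw [h.ort i₀ (π' l) (by rw [hpp]; exact Ne.symm hpl) y hy _ hgv', h.ort i₀ (π l) (Ne.symm hpl) y hy _ hgv, hy1,
      mul_one, mul_one, zero_sub, zero_sub] at e2
    have e3 : c i₀ = b.B (g (v l)) (w (π l)) := b.τ.injective (neg_injective e2)
    have e4 := hg.form (v l) (w l)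
    rw [hv1, map_one, mul_one, hc4 l, b.smul_right, ← e3] at e4
    exact e4

/-! ### Quadruples -/

/-- isotropic quadruples which are independent or contain a proportional pair -/
theorem exists_four' [Finite K] [Finite V] {b : Cl K V} (hb : b.IsU) {I : Submodule K V} (hI : b.ND I)
    (h2 : 2 ≤ Module.finrank K I) (c : Fin 3 → V) (hc : ∀ i, c i ∈ I) {i₀ : Fin 3} (h0 : c i₀ ≠ 0) :
    ∃ u : Fin 4 → V, (∀ j, u j ∈ I ∧ b.B (u j) (u j) = 0 ∧ u j ≠ 0) ∧
      (∀ i, c i ∈ Submodule.span K (Set.range u)) ∧ (LinearIndependent K u ∨ ∃ i j, i ≠ j ∧ u j = u i) := by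
  classical
  obtain ⟨u, hu, hus, -⟩ := exists_four hb hI h2 c hc h0 one_ne_zero
  by_cases hli : LinearIndependent K u
  · exact ⟨u, hu, hus, Or.inl hli⟩
  · rw [linearIndependent_iff_notMem_span] at hli
    push Not at hli
    obtain ⟨a, ha⟩ := hli
    obtain ⟨b', hb'⟩ := exists_ne a
    refine ⟨Function.update u a (u b'), fun j => ?_, fun i => ?_, Or.inr ⟨a, b', Ne.symm hb', ?_⟩⟩
    · by_cases hj : j = a
      · subst hj
        rw [Function.update_self]
        exact hu b'
      · rw [Function.update_of_ne hj]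
        exact hu j
    · have h1 : ∀ j, j ≠ a → u j ∈ Submodule.span K (Set.range (Function.update u a (u b'))) := fun j hj =>
        Submodule.subset_span ⟨j, Function.update_of_ne hj _ _⟩
      have h3 : u a ∈ Submodule.span K (Set.range (Function.update u a (u b'))) := by
        refine Submodule.span_le.2 ?_ ha
        rintro _ ⟨j, hj, rfl⟩
        exact h1 j hj.2
      refine Submodule.span_le.2 ?_ (hus i)
      rintro _ ⟨j, rfl⟩
      by_cases hj : j = a
      · rw [hj]; exact h3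
      · exact h1 j hj
    · rw [Function.update_self, Function.update_of_ne hb']

/-- rigid quadruples: dependent, without proportional pairs -/
theorem exists_rigid' [Finite K] [Module.Finite K V] (hK : ∃ (σ : K ≃+* K) (a : K), σ a ≠ a) {A : Submodule K V}
    (h2 : 2 ≤ Module.finrank K A) {c : Fin 3 → V} (hc : ∀ i, c i ∈ A) :
    ∃ v : Fin 4 → V, (∀ j, v j ∈ A ∧ v j ≠ 0) ∧ ¬ LinearIndependent K v ∧ (∀ i j, i ≠ j → ∀ s : K, v j ≠ s • v i) ∧
      ∀ (g : Equiv.Perm V) (σ : K ≃+* K), Sml g σ → (∀ j, ∃ s : K, g (v j) = s • v j) →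
        ∃ s : K, s ≠ 0 ∧ ∀ i, g (c i) = s • c i := by
  have ne : ∀ (g : Equiv.Perm V) (σ : K ≃+* K), Sml g σ → ∀ x : V, x ≠ 0 → ∀ s : K, g x = s • x → s ≠ 0 := by
    rintro g σ hg x hx s h rfl
    apply hx
    apply g.injective
    have h0 : g 0 = 0 := by
      have := hg.1 0 0
      rw [add_zero] at this
      exact left_eq_add.1 this
    rw [h, h0, zero_smul]
  by_cases hli : LinearIndependent K c
  · have hne : ∀ i, c i ≠ 0 := hli.ne_zero
    have h3 : ∀ s0 s1 s2 : K, s0 • c 0 + s1 • c 1 + s2 • c 2 = 0 → s0 = 0 ∧ s1 = 0 ∧ s2 = 0 := by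
      intro s0 s1 s2 hs
      have h4 := Fintype.linearIndependent_iff.1 hli ![s0, s1, s2] (by
        rw [Fin.sum_univ_three]
        exact hs)
      exact ⟨h4 0, h4 1, h4 2⟩
    have key : ∀ {r s t r' s' t' : K}, r • c 0 + s • c 1 + t • c 2 = r' • c 0 + s' • c 1 + t' • c 2 →
        r = r' ∧ s = s' ∧ t = t' := by
      intro r s t r' s' t' hh
      have := h3 (r - r') (s - s') (t - t') (by
        rw [sub_smul, sub_smul, sub_smul]
        rw [← sub_eq_zero] at hh
        rw [← hh]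
        abel)
      exact ⟨sub_eq_zero.1 this.1, sub_eq_zero.1 this.2.1, sub_eq_zero.1 this.2.2⟩
    have hsum : c 0 + c 1 + c 2 ≠ 0 := by
      intro h
      have := (h3 1 1 1 (by simpa using h)).1
      exact one_ne_zero this
    refine ⟨![c 0, c 1, c 2, c 0 + c 1 + c 2], fun j => ?_, ?_, ?_, fun g σ hσ h => ?_⟩
    · fin_cases j
      exacts [⟨hc 0, hne 0⟩, ⟨hc 1, hne 1⟩, ⟨hc 2, hne 2⟩, ⟨A.add_mem (A.add_mem (hc 0) (hc 1)) (hc 2), hsum⟩]
    · intro h4
      have := Fintype.linearIndependent_iff.1 h4 ![1, 1, 1, -1] (by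
        rw [Fin.sum_univ_four]
        show (1 : K) • c 0 + (1 : K) • c 1 + (1 : K) • c 2 + (-1 : K) • (c 0 + c 1 + c 2) = 0
        rw [one_smul, one_smul, one_smul, neg_one_smul, add_neg_cancel]) 0
      exact one_ne_zero this
    · have hpair : ∀ i j : Fin 4, i < j → ∀ s : K, (![c 0, c 1, c 2, c 0 + c 1 + c 2] : Fin 4 → V) j ≠
          s • (![c 0, c 1, c 2, c 0 + c 1 + c 2] : Fin 4 → V) i := by
        intro i j hij s hs
        fin_cases i <;> fin_cases j <;> first | exact absurd hij (by decide) | skip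
        · have e : c 1 = s • c 0 := hs
          exact one_ne_zero (key (r := 0) (s := 1) (t := 0) (r' := s) (s' := 0) (t' := 0) (by simpa using e)).2.1
        · have e : c 2 = s • c 0 := hs
          exact one_ne_zero (key (r := 0) (s := 0) (t := 1) (r' := s) (s' := 0) (t' := 0) (by simpa using e)).2.2
        · have e : c 0 + c 1 + c 2 = s • c 0 := hs
          exact one_ne_zero (key (r := 1) (s := 1) (t := 1) (r' := s) (s' := 0) (t' := 0) (by simpa using e)).2.2
        · have e : c 2 = s • c 1 := hs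
          exact one_ne_zero (key (r := 0) (s := 0) (t := 1) (r' := 0) (s' := s) (t' := 0) (by simpa using e)).2.2
        · have e : c 0 + c 1 + c 2 = s • c 1 := hs
          exact one_ne_zero (key (r := 1) (s := 1) (t := 1) (r' := 0) (s' := s) (t' := 0) (by simpa using e)).2.2
        · have e : c 0 + c 1 + c 2 = s • c 2 := hs
          exact one_ne_zero (key (r := 1) (s := 1) (t := 1) (r' := 0) (s' := 0) (t' := s) (by simpa using e)).1
      have hnz : ∀ j, (![c 0, c 1, c 2, c 0 + c 1 + c 2] : Fin 4 → V) j ≠ 0 := by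
        intro j
        fin_cases j
        exacts [hne 0, hne 1, hne 2, hsum]
      intro i j hij s hs
      rcases lt_or_gt_of_ne hij with h | h
      · exact hpair i j h s hs
      · have hs0 : s ≠ 0 := by
          rintro rfl
          rw [zero_smul] at hs
          exact hnz j hs
        refine hpair j i h s⁻¹ ?_
        rw [hs, smul_smul, inv_mul_cancel₀ hs0, one_smul]
    · obtain ⟨s0, e0⟩ := h 0
      obtain ⟨s1, e1⟩ := h 1
      obtain ⟨s2, e2⟩ := h 2
      obtain ⟨s3, e3⟩ := h 3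
      change g (c 0) = s0 • c 0 at e0
      change g (c 1) = s1 • c 1 at e1
      change g (c 2) = s2 • c 2 at e2
      change g (c 0 + c 1 + c 2) = s3 • (c 0 + c 1 + c 2) at e3
      rw [hσ.1, hσ.1, e0, e1, e2, smul_add, smul_add] at e3
      obtain ⟨f0, f1, f2⟩ := key e3
      subst f0
      rw [f1] at e1
      rw [f2] at e2
      refine ⟨s0, ne g σ hσ _ (hne 0) _ e0, fun i => ?_⟩
      fin_cases i
      exacts [e0, e1, e2]
  · obtain ⟨p₁, p₂, hp₁, hp₂, hind, hspan⟩ := exists_plane h2 hc hli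
    obtain ⟨γ, hγ0, hγ⟩ := exists_gen K
    have hγ1 : γ ≠ 1 := by
      rintro rfl
      obtain ⟨σ, a, ha⟩ := hK
      exact ha (hγ σ (map_one σ) a)
    have key : ∀ {r s r' s' : K}, r • p₁ + s • p₂ = r' • p₁ + s' • p₂ → r = r' ∧ s = s' := by
      intro r s r' s' hh
      have := hind (r - r') (s - s') (by
        rw [sub_smul, sub_smul]
        rw [← sub_eq_zero] at hh
        rw [← hh]
        abel)
      exact ⟨sub_eq_zero.1 this.1, sub_eq_zero.1 this.2⟩
    have n1 : p₁ ≠ 0 := by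
      intro h
      have := (hind 1 0 (by rw [h, smul_zero, zero_smul, add_zero])).1
      exact one_ne_zero this
    have n2 : p₂ ≠ 0 := by
      intro h
      have := (hind 0 1 (by rw [h, smul_zero, zero_smul, add_zero])).2
      exact one_ne_zero this
    have n3 : ∀ s : K, p₁ + s • p₂ ≠ 0 := by
      intro s h
      have := (hind 1 s (by rw [one_smul]; exact h)).1
      exact one_ne_zero this
    have hnz : ∀ j, (![p₁, p₂, p₁ + (1 : K) • p₂, p₁ + γ • p₂] : Fin 4 → V) j ≠ 0 := by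
      intro j
      fin_cases j
      exacts [n1, n2, n3 1, n3 γ]
    refine ⟨![p₁, p₂, p₁ + (1 : K) • p₂, p₁ + γ • p₂], fun j => ?_, ?_, ?_, fun g σ hσ h => ?_⟩
    · fin_cases j
      exacts [⟨hp₁, n1⟩, ⟨hp₂, n2⟩, ⟨A.add_mem hp₁ (A.smul_mem _ hp₂), n3 1⟩, ⟨A.add_mem hp₁ (A.smul_mem _ hp₂), n3 γ⟩]
    · intro h4
      have := Fintype.linearIndependent_iff.1 h4 ![1, 1, -1, 0] (by
        rw [Fin.sum_univ_four]
        show (1 : K) • p₁ + (1 : K) • p₂ + (-1 : K) • (p₁ + (1 : K) • p₂) + (0 : K) • (p₁ + γ • p₂) = 0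
        rw [one_smul, one_smul, neg_one_smul, add_neg_cancel, zero_smul, add_zero]) 0
      exact one_ne_zero this
    · have hpair : ∀ i j : Fin 4, i < j → ∀ s : K, (![p₁, p₂, p₁ + (1 : K) • p₂, p₁ + γ • p₂] : Fin 4 → V) j ≠
          s • (![p₁, p₂, p₁ + (1 : K) • p₂, p₁ + γ • p₂] : Fin 4 → V) i := by
        intro i j hij s hs
        fin_cases i <;> fin_cases j <;> first | exact absurd hij (by decide) | skip
        · have e : p₂ = s • p₁ := hs
          exact one_ne_zero (key (r := 0) (s := 1) (r' := s) (s' := 0) (by simpa using e)).2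
        · have e : p₁ + (1 : K) • p₂ = s • p₁ := hs
          exact one_ne_zero (key (r := 1) (s := 1) (r' := s) (s' := 0) (by simpa using e)).2
        · have e : p₁ + γ • p₂ = s • p₁ := hs
          exact hγ0 (key (r := 1) (s := γ) (r' := s) (s' := 0) (by simpa using e)).2
        · have e : p₁ + (1 : K) • p₂ = s • p₂ := hs
          exact one_ne_zero (key (r := 1) (s := 1) (r' := 0) (s' := s) (by simpa using e)).1
        · have e : p₁ + γ • p₂ = s • p₂ := hs
          exact one_ne_zero (key (r := 1) (s := γ) (r' := 0) (s' := s) (by simpa using e)).1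
        · have e : p₁ + γ • p₂ = s • (p₁ + (1 : K) • p₂) := hs
          rw [smul_add, smul_smul, mul_one] at e
          obtain ⟨e1, e2⟩ := key (r := 1) (s := γ) (r' := s) (s' := s) (by simpa using e)
          exact hγ1 (e2.trans e1.symm)
      intro i j hij s hs
      rcases lt_or_gt_of_ne hij with h | h
      · exact hpair i j h s hs
      · have hs0 : s ≠ 0 := by
          rintro rfl
          rw [zero_smul] at hs
          exact hnz j hs
        refine hpair j i h s⁻¹ ?_
        have e4 := congrArg (fun z => s⁻¹ • z) hs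
        simp only [smul_smul, inv_mul_cancel₀ hs0] at e4
        rw [e4]
        exact (one_smul K _).symm
    · obtain ⟨s0, e0⟩ := h 0
      obtain ⟨s1, e1⟩ := h 1
      obtain ⟨s2, e2⟩ := h 2
      obtain ⟨s3, e3⟩ := h 3
      change g p₁ = s0 • p₁ at e0
      change g p₂ = s1 • p₂ at e1
      change g (p₁ + (1 : K) • p₂) = s2 • (p₁ + (1 : K) • p₂) at e2
      change g (p₁ + γ • p₂) = s3 • (p₁ + γ • p₂) at e3
      have key' : ∀ s a : K, g (p₁ + a • p₂) = s • (p₁ + a • p₂) → s0 = s ∧ σ a * s1 = s * a := by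
        intro s a h
        rw [hσ.1, hσ.2, e0, e1, smul_add, smul_smul, smul_smul] at h
        exact key h
      obtain ⟨k1, k2⟩ := key' _ _ e2
      obtain ⟨k3, k4⟩ := key' _ _ e3
      rw [map_one, one_mul, mul_one, ← k1] at k2
      rw [← k3, k2] at k4
      have hs0 : s0 ≠ 0 := ne g σ hσ _ n1 _ e0
      have k5 : σ γ = γ := by
        rw [mul_comm] at k4
        exact mul_left_cancel₀ hs0 k4
      have k6 := hγ σ k5
      refine ⟨s0, hs0, fun i => ?_⟩
      obtain ⟨a, a', ha⟩ := Submodule.mem_span_pair.1 (hspan i)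
      rw [← ha, hσ.1, hσ.2, hσ.2, e0, e1, k2, k6, k6, smul_add, smul_smul, smul_smul, smul_smul, smul_smul,
        mul_comm s0 a, mul_comm s0 a']

/-! ### The base of a block -/

/-- no totally isotropic subspace of a block is invariant under the stabilizer of the block -/
theorem blk_TI {b : Cl K V} {G : Subgroup (Equiv.Perm V)} (hG : G ≤ Sim b) {U : ι → Submodule K V} (h : Blk b U)
    (hp : ∀ g ∈ G, ∃ π, Pm U g π) (hTI : ∀ U : Submodule K V, b.TI U → G ≤ StabS U → U = ⊥) {i : ι}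
    {W : Submodule K V} (hWU : W ≤ U i) (hW : b.TI W) (hGW : G ⊓ StabS (U i) ≤ StabS W) : W = ⊥ := by
  classical
  set S : Set V := {x | ∃ g ∈ G, ∃ w ∈ W, x = g w} with hS
  have hWS : W ≤ Submodule.span K S := fun w hw => Submodule.subset_span ⟨1, one_mem _, w, hw, rfl⟩
  have hpair : ∀ x ∈ S, ∀ y ∈ S, b.B x y = 0 := by
    rintro _ ⟨g, hg, w, hw, rfl⟩ _ ⟨g', hg', w', hw', rfl⟩
    obtain ⟨π, hπ⟩ := hp g hg
    obtain ⟨π', hπ'⟩ := hp g' hg'
    by_cases he : π i = π' i
    · have h1 : g⁻¹ * g' ∈ G ⊓ StabS (U i) := by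
        refine ⟨G.mul_mem (G.inv_mem hg) hg', fun v => ?_⟩
        have h2 := hπ i ((g⁻¹ * g') v)
        have e1 : g ((g⁻¹ * g') v) = g' v := by simp
        rw [e1, he, hπ' i v] at h2
        exact h2.symm
      obtain ⟨σ, μ, hs⟩ := hG hg
      have h3 : g' w' = g ((g⁻¹ * g') w') := by simp
      rw [h3, hs.form, hW w hw _ ((hGW h1 w').2 hw'), map_zero, mul_zero]
    · exact h.ort _ _ he _ ((hπ i w).2 (hWU hw)) _ ((hπ' i w').2 (hWU hw'))
  have h1 : ∀ x ∈ Submodule.span K S, ∀ y ∈ S, b.B x y = 0 := by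
    intro x hx y hy
    induction hx using Submodule.span_induction with
    | mem x hx => exact hpair x hx y hy
    | zero => exact zero_left b y
    | add x x' _ _ h1 h2 => rw [b.add_left, h1, h2, add_zero]
    | smul a x _ h1 => rw [b.smul_left, h1, mul_zero]
  have hT : b.TI (Submodule.span K S) := by
    intro x hx y hy
    induction hy using Submodule.span_induction with
    | mem y hy => exact h1 x hx y hy
    | zero => exact zero_right b x
    | add y y' _ _ h1 h2 => rw [b.add_right, h1, h2, add_zero]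
    | smul a y _ h1 => rw [b.smul_right, h1, mul_zero]
  have hinv : ∀ g ∈ G, ∀ x ∈ Submodule.span K S, g x ∈ Submodule.span K S := by
    intro g hg x hx
    obtain ⟨σ, μ, hs⟩ := hG hg
    induction hx using Submodule.span_induction with
    | mem x hx =>
      obtain ⟨g', hg', w, hw, rfl⟩ := hx
      exact Submodule.subset_span ⟨g * g', mul_mem hg hg', w, hw, rfl⟩
    | zero => rw [hs.map_zero]; exact Submodule.zero_mem _
    | add x x' _ _ h1 h2 => rw [hs.add]; exact Submodule.add_mem _ h1 h2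
    | smul a x _ h1 => rw [hs.smul]; exact Submodule.smul_mem _ _ h1
  have h2 := hTI _ hT (fun g hg x => ⟨fun hx => by
    have := hinv g⁻¹ (G.inv_mem hg) _ hx
    have e1 : g⁻¹ (g x) = x := by simp
    rwa [e1] at this, hinv g hg x⟩)
  rw [eq_bot_iff, ← h2]
  exact hWS

/-- a base of size three for the stabilizer of a block -/
theorem blk_base [Finite V] {b : Cl K V} {G : Subgroup (Equiv.Perm V)} (hG : G ≤ Sim b)
    (hsol : Group.IsSolvable G) (hhm : ∀ a : Kˣ, hm K V a ∈ G) {U : ι → Submodule K V} (h : Blk b U)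
    (hp : ∀ g ∈ G, ∃ π, Pm U g π) (hTI : ∀ U : Submodule K V, b.TI U → G ≤ StabS U → U = ⊥) (i : ι) :
    ∃ c : Fin 3 → V, (∀ j, c j ∈ U i) ∧ ∀ g ∈ G, g ∈ StabS (U i) → (∀ j, g (c j) = c j) → ∀ w ∈ U i, g w = w := by
  have hs : Group.IsSolvable ↥(G ⊓ StabS (U i)) :=
    Group.isSolvable_of_isSolvable_injective (f := inclusion (inf_le_left : G ⊓ StabS (U i) ≤ G))
      (inclusion_injective inf_le_left)
  obtain ⟨c, hc, hcb⟩ := base3 (G := G ⊓ StabS (U i)) (inf_le_left.trans hG) hs
    (fun a => ⟨hhm a, hm_mem_StabS _ _⟩) inf_le_right (fun W hW hT hS => blk_TI hG h hp hTI hW hT hS)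
  exact ⟨c, hc, fun g hg hgU => hcb g ⟨hg, hgU⟩⟩

/-! ### Assembly -/

theorem exists_ind [Module.Finite K V] {A : Submodule K V} (h2 : 2 ≤ Module.finrank K A) :
    ∃ x ∈ A, ∃ y ∈ A, Ind K x y := by
  obtain ⟨p₁, p₂, h1, h3, h4, -⟩ := exists_plane (K := K) h2 (c := fun _ => 0) (fun _ => A.zero_mem) (fun h => h.ne_zero 0 rfl)
  exact ⟨p₁, h1, p₂, h3, h4⟩

theorem pr_ne (t : Fin 6) : (pr t).1 ≠ (pr t).2 := by
  revert t
  decide

theorem exists_pr {i j : Fin 4} (h : i ≠ j) : ∃ t, (pr t = (i, j)) ∨ (pr t = (j, i)) := by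
  revert h
  revert i j
  decide

/-- **C2 for unitary groups, blocks of dimension `≥ 2`, semilinear language** -/
theorem core2U [Finite K] [Module.Finite K V] {b : Cl K V} (hb : b.IsU) {G : Subgroup (Equiv.Perm V)}
    (hG : G ≤ Sim b) (hsol : Group.IsSolvable G) (hhm : ∀ a : Kˣ, hm K V a ∈ G)
    (hTI : ∀ U : Submodule K V, b.TI U → G ≤ StabS U → U = ⊥) [Fintype ι] [Nontrivial ι] {U : ι → Submodule K V}
    (hU : Sys b G U) (h2 : ∀ i, 2 ≤ Module.finrank K (U i)) (col : ι → Fin 5)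
    (hcol : ∀ g ∈ G, ∀ π, Pm U g π → (∀ i, col (π i) = col i) → π = 1) : FiveBV b G := by
  classical
  have hfin : Finite V := Module.finite_of_finite K
  obtain ⟨i₀, l₀, hil⟩ := exists_pair_ne ι
  have hND : ∀ i, b.ND (U i) := fun i v hv hv' => hU.blk.nondeg hv hv'
  have hne : ∀ i, U i ≠ ⊥ := hU.ne
  choose c hc hcb using fun i => blk_base hG hsol hhm hU.blk hU.pm hTI i
  -- the three kinds of quadruples
  obtain ⟨m₀, hm₀⟩ := exists_base_ne (G := G ⊓ StabS (U i₀)) hb (fun a => ⟨hhm a, hm_mem_StabS _ _⟩) (hne i₀)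
    (c := c i₀) (fun g hg => hcb i₀ g hg.1 hg.2)
  obtain ⟨u, hu, hus, hui⟩ := exists_four' hb (hND i₀) (h2 i₀) (c i₀) (hc i₀) hm₀
  obtain ⟨v, hv, hvd, hvp, hvr⟩ := exists_rigid' (K := K) ⟨b.τ, hb.1⟩ (h2 l₀) (hc l₀)
  choose q hq hqt hqs using fun i => quad_type (exists_ind (h2 i)) (hc i) (col i).castSucc
  let W : ι → Fin 4 → V := fun i j => if i = i₀ then u j else if i = l₀ then v j else q i j
  have hW0 : ∀ j, W i₀ j = u j := fun j => if_pos rfl
  have hW1 : ∀ j, W l₀ j = v j := fun j => by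
    show (if l₀ = i₀ then u j else if l₀ = l₀ then v j else q l₀ j) = v j
    rw [if_neg (Ne.symm hil), if_pos rfl]
  have hW2 : ∀ i, i ≠ i₀ → i ≠ l₀ → ∀ j, W i j = q i j := fun i h h' j => by
    show (if i = i₀ then u j else if i = l₀ then v j else q i j) = q i j
    rw [if_neg h, if_neg h']
  have hWU : ∀ i j, W i j ∈ U i ∧ W i j ≠ 0 := by
    intro i j
    by_cases h : i = i₀
    · subst h
      rw [hW0]
      exact ⟨(hu j).1, (hu j).2.2⟩
    · by_cases h' : i = l₀
      · subst h'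
        rw [hW1]
        exact hv j
      · rw [hW2 i h h']
        exact hq i j
  have horth : ∀ j, b.B (W i₀ j) (∑ l ∈ Finset.univ.erase i₀, W l j) = 0 := by
    intro j
    rw [B_sum_right]
    exact Finset.sum_eq_zero fun l hl => hU.blk.ort i₀ l (Ne.symm (Finset.ne_of_mem_erase hl)) _ (hWU i₀ j).1 _
      (hWU l j).1
  have hiso : ∀ j, b.B (W i₀ j) (W i₀ j) = 0 := by
    intro j
    rw [hW0]
    exact (hu j).2.1
  choose E ρ hE1 hE2 hE3 using fun j => exists_eich hb (hiso j) (horth j)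
  refine ⟨E, hE1, hE2, fun g hg hx => ?_⟩
  obtain ⟨σ, μ, hs⟩ := hG hg
  obtain ⟨π, hπ⟩ := hU.pm g hg
  have hfix : ∀ j, ∃ C : ι → K, (∀ i, g (W i j) = C i • W (π i) j) ∧ ((∃ n, n ≠ i₀ ∧ n ≠ π i₀) → π i₀ = i₀) ∧
      (π i₀ = i₀ → ∀ l, l ≠ i₀ → b.τ (C l) * C i₀ = μ) := by
    intro j
    obtain ⟨σ', μ', hs'⟩ := hG (hx j)
    obtain ⟨π', hπ'⟩ := hU.pm _ (hx j)
    exact blk_fix hU.blk hs hs' hπ hπ' (w := fun i => W i j) (fun i => (hWU i j).1) (fun i => (hWU i j).2) (hiso j)
      (hE3 j) fun x => by simp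
  choose C hC1 hC2 hC3 using hfix
  have hC0 : ∀ j i, C j i ≠ 0 := by
    intro j i h0
    apply (hWU i j).2
    apply g.injective
    rw [hC1, h0, zero_smul, hs.map_zero]
  -- `π i₀ = i₀`
  have hπ0 : π i₀ = i₀ := by
    by_contra hcon
    have h1 : ¬ ∃ n, n ≠ i₀ ∧ n ≠ π i₀ := fun h => hcon (hC2 0 h)
    push Not at h1
    have h3 : π i₀ = l₀ := (h1 l₀ (Ne.symm hil)).symm
    have h4 : ∀ j, g (u j) = C j i₀ • v j := by
      intro j
      have := hC1 j i₀
      rwa [hW0, h3, hW1] at this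
    rcases hui with hli | ⟨a, a', haa, hua⟩
    · apply hvd
      rw [Fintype.linearIndependent_iff]
      intro t ht j
      have h5 : ∑ j, σ.symm (t j * (C j i₀)⁻¹) • u j = 0 := by
        apply g.injective
        rw [hs.map_sum, hs.map_zero, ← ht]
        refine Finset.sum_congr rfl fun j _ => ?_
        rw [hs.smul, RingEquiv.apply_symm_apply, h4, smul_smul, mul_assoc, inv_mul_cancel₀ (hC0 j i₀), mul_one]
      have h6 := Fintype.linearIndependent_iff.1 hli _ h5 j
      have h7 : t j * (C j i₀)⁻¹ = 0 := by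
        have := congrArg σ h6
        rwa [RingEquiv.apply_symm_apply, map_zero] at this
      exact (mul_eq_zero.1 h7).resolve_right (inv_ne_zero (hC0 j i₀))
    · refine hvp a a' haa ((C a' i₀)⁻¹ * C a i₀) ?_
      have h5 := h4 a'
      rw [hua, h4 a] at h5
      rw [mul_smul, h5, smul_smul, inv_mul_cancel₀ (hC0 _ _), one_smul]
  -- `π l₀ = l₀`
  have hπne : ∀ i, i ≠ i₀ → π i ≠ i₀ := fun i hi h => hi (π.injective (h.trans hπ0.symm))
  have htyp : ∀ i t, typ K (W i) t ↔ typ K (W (π i)) t := fun i t =>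
    typ_congr (g := g) (σ := σ) hs.smul (c := fun j => C j i) (fun j => hC0 j i) (fun j => hC1 j i) t
  have hvt : ∀ t, ¬ typ K v t := by
    rintro t ⟨s, hs'⟩
    exact hvp _ _ (pr_ne t) s hs'
  have hW1' : W l₀ = v := funext hW1
  have hπ1 : π l₀ = l₀ := by
    by_contra hcon
    have h1 : W (π l₀) = q (π l₀) := funext (hW2 _ (hπne l₀ (Ne.symm hil)) hcon)
    have h3 := htyp l₀ (col (π l₀)).castSucc
    rw [hW1', h1] at h3
    exact hvt _ (h3.2 ((hqt (π l₀) _).2 rfl))
  have hπne' : ∀ i, i ≠ l₀ → π i ≠ l₀ := fun i hi h => hi (π.injective (h.trans hπ1.symm))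
  have hπ2 : π = 1 := by
    refine hcol g hg π hπ fun i => ?_
    by_cases h : i = i₀
    · rw [h, hπ0]
    · by_cases h' : i = l₀
      · rw [h', hπ1]
      · have h1 : W i = q i := funext (hW2 i h h')
        have h3 : W (π i) = q (π i) := funext (hW2 _ (hπne i h) (hπne' i h'))
        have h4 := (htyp i (col i).castSucc).1 (by rw [h1]; exact (hqt i _).2 rfl)
        rw [h3] at h4
        exact (Fin.castSucc_injective _ ((hqt (π i) _).1 h4)).symm
  -- the stabilizers of the blocks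
  have hst : ∀ i, g ∈ StabS (U i) := by
    intro i w
    have := hπ i w
    rw [hπ2] at this
    exact this
  have hC1' : ∀ j i, g (W i j) = C j i • W i j := by
    intro j i
    have := hC1 j i
    rw [hπ2] at this
    exact this
  obtain ⟨s, hs0, hsc⟩ := hvr g σ ⟨hs.add, hs.smul⟩ fun j => ⟨C j l₀, by
    have := hC1' j l₀
    rwa [hW1] at this⟩
  obtain ⟨s, rfl⟩ : ∃ s' : Kˣ, (s' : K) = s := ⟨Units.mk0 s hs0, rfl⟩
  -- from the base to the block
  have hblock : ∀ i, (∀ m, g (c i m) = (s : K) • c i m) → ∀ w ∈ U i, g w = (s : K) • w := by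
    intro i hi w hw
    have h3 := hcb i (hm K V s⁻¹ * g) (G.mul_mem (hhm _) hg) (Subgroup.mul_mem _ (hm_mem_StabS _ _) (hst i)) (fun m => by
      rw [Equiv.Perm.mul_apply, hm_apply, hi m, smul_smul, Units.inv_mul, one_smul]) w hw
    rw [Equiv.Perm.mul_apply, hm_apply] at h3
    have h4 : g w = (s : K) • (((s⁻¹ : Kˣ) : K) • g w) := by
      rw [smul_smul, Units.mul_inv, one_smul]
    rw [h4, h3]
  have hl0 := hblock l₀ hsc
  obtain ⟨hv0, hv0'⟩ := hv 0
  have hσ : ∀ a, σ a = a := by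
    intro a
    have h3 := hs.smul a (v 0)
    rw [hl0 _ ((U l₀).smul_mem a hv0), hl0 _ hv0, smul_smul, smul_smul] at h3
    have h4 : ((s : K) * a - σ a * s) • v 0 = 0 := by rw [sub_smul, h3, sub_self]
    have h5 := sub_eq_zero.1 ((smul_eq_zero.1 h4).resolve_right hv0')
    rw [mul_comm] at h5
    exact (mul_right_cancel₀ hs0 h5).symm
  have hμ : μ = s * b.τ s := by
    obtain ⟨y, hy, hy1⟩ := blk_exists_one hU.blk hv0 hv0'
    have h3 := hs.form y (v 0)
    rw [hl0 _ hy, hl0 _ hv0, b.smul_left, b.smul_right, hy1, map_one, mul_one, mul_one] at h3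
    exact h3.symm
  have hCl : ∀ j, C j l₀ = s := by
    intro j
    have h3 := hC1' j l₀
    rw [hW1, hl0 _ (hv j).1] at h3
    have h5 : ((s : K) - C j l₀) • v j = 0 := by rw [sub_smul, h3, sub_self]
    exact (sub_eq_zero.1 ((smul_eq_zero.1 h5).resolve_right (hv j).2)).symm
  have hτs : b.τ (s : K) ≠ 0 := (map_ne_zero b.τ).2 hs0
  have hCi : ∀ j, C j i₀ = s := by
    intro j
    have h3 := hC3 j hπ0 l₀ (Ne.symm hil)
    rw [hCl, hμ, mul_comm (s : K)] at h3
    exact mul_left_cancel₀ hτs h3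
  have hCall : ∀ j i, C j i = s := by
    intro j i
    by_cases h : i = i₀
    · rw [h, hCi]
    · have h3 := hC3 j hπ0 i h
      rw [hCi, hμ, mul_comm (s : K)] at h3
      exact b.τ.injective (mul_right_cancel₀ hs0 h3)
  have hspan : ∀ i, ∀ w ∈ Submodule.span K (Set.range (W i)), g w = (s : K) • w := by
    intro i w hw
    induction hw using Submodule.span_induction with
    | mem x hx => obtain ⟨j, rfl⟩ := hx; rw [hC1', hCall]
    | zero => rw [hs.map_zero, smul_zero]
    | add x y _ _ hx hy => rw [hs.add, hx, hy, smul_add]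
    | smul a x _ hx => rw [hs.smul, hx, hσ, smul_comm]
  have hall : ∀ i, ∀ w ∈ U i, g w = (s : K) • w := by
    intro i
    by_cases h : i = i₀
    · subst h
      refine hblock i fun m => hspan i _ ?_
      have : W i = u := funext hW0
      rw [this]
      exact hus m
    · by_cases h' : i = l₀
      · rw [h']; exact hl0
      · refine hblock i fun m => hspan i _ ?_
        have : W i = q i := funext (hW2 i h h')
        rw [this]
        exact hqs i m
  refine ⟨s, ?_⟩
  ext w
  rw [hm_apply]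
  have hw : w ∈ ⨆ i, U i := by rw [hU.blk.top]; trivial
  induction hw using Submodule.iSup_induction' with
  | mem i x hx => exact hall i x hx
  | zero => rw [hs.map_zero, smul_zero]
  | add x y _ _ hx hy => rw [hs.add, hx, hy, smul_add]

end blocks

end Cfsg.Agent.H499.FC
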